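import Groth.Agent.GrLib8.ProZ.Uniform
import Groth.Agent.GrLib8.PointT.Point
import Groth.Agent.KFlatLib.Ring.DualizingLocalDuality
import Groth.Agent.KFlatLib.Ring.DualizingFlat
import Groth.Agent.KFlatLib.Ring.DualizingRange
import Groth.Agent.KFlatLib.Ring.InvertibleTwist

/-!
# The complex at a prime and the pairing with local cohomology
-/

set_option autoImplicit false
set_option linter.style.haveILetI false
set_option backward.isDefEq.respectTransparency false

universe u

open CategoryTheory Limits
open scoped TensorProduct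

attribute [local instance] HasDerivedCategory.standard

namespace Groth.Agent.GrLib8.ProZ

open PointT (lF Fp mp Rp)

variable {A : Type u} [CommRing A] (S : Submonoid A)

theorem nonempty_extend_iso {B : Type u} [CommRing B] [iA : Algebra A B] (F : ModuleCat.{u} A ⥤ ModuleCat.{u} B)
    (θ : ∀ M : ModuleCat.{u} A, (B ⊗[A] M) ≃ₗ[B] F.obj M)
    (hθ : ∀ {M M' : ModuleCat.{u} A} (f : M ⟶ M') (z : B ⊗[A] M), θ M' (f.hom.baseChange B z) = (F.map f).hom (θ M z)) :
    Nonempty (ModuleCat.extendScalars.{u, u, u} (algebraMap A B) ≅ F) := by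
  have he : (algebraMap A B).toAlgebra = iA := Algebra.algebra_ext _ _ fun _ => rfl
  generalize algebraMap A B = φ at he ⊢
  subst he
  letI := φ.toAlgebra
  exact ⟨NatIso.ofComponents (fun M =>
    LinearEquiv.toModuleIso (X₁ := (ModuleCat.extendScalars.{u, u, u} φ).obj M) (X₂ := F.obj M) (θ M))
    fun {M M'} f => ModuleCat.hom_ext (LinearMap.ext fun z => hθ f z)⟩

theorem nonempty_extLF :
    Nonempty (ModuleCat.extendScalars.{u, u, u} (algebraMap A (Localization S)) ≅ lF S) :=
  nonempty_extend_iso (lF S) (fun M => (LocalizedModule.equivTensorProduct S M).symm) fun {M M'} f z => by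
    induction z using TensorProduct.induction_on with
    | zero => simp
    | tmul c m =>
      induction c using Localization.induction_on with
      | H rs =>
        obtain ⟨r, s⟩ := rs
        show (LocalizedModule.equivTensorProduct S M').symm (Localization.mk r s ⊗ₜ[A] f.hom m) =
          ((lF S).map f).hom ((LocalizedModule.equivTensorProduct S M).symm (Localization.mk r s ⊗ₜ[A] m))
        rw [LocalizedModule.equivTensorProduct_symm_apply_tmul, LocalizedModule.equivTensorProduct_symm_apply_tmul,
          LocalizedModule.smul'_mk, LocalizedModule.smul'_mk, PointT.lF_map_mk, map_smul]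
    | add a b ha hb => simp only [map_add, ha, hb]

/-- The localised complex. -/
noncomputable abbrev locCx (J : CochainComplex (ModuleCat.{u} A) ℤ) : CochainComplex (ModuleCat.{u} (Localization S)) ℤ :=
  ((lF S).mapHomologicalComplex (ComplexShape.up ℤ)).obj J

theorem injective_lF_obj [IsNoetherianRing A] (X : ModuleCat.{u} A) (h : Module.Injective A X) :
    Injective ((lF S).obj X) := by
  haveI : Module.Injective (Localization S) (LocalizedModule S X) :=
    Module.injective_of_isLocalizedModule (Rₛ := Localization S) S (LocalizedModule.mkLinearMap S X)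
  exact Module.injective_object_of_injective_module (R := Localization S) (M := LocalizedModule S X)

theorem isKInjective_locCx [IsNoetherianRing A] (J : CochainComplex (ModuleCat.{u} A) ℤ)
    (hinj : ∀ p, Module.Injective A (J.X p)) (a : ℤ) [J.IsStrictlyGE a] : (locCx S J).IsKInjective := by
  haveI : (locCx S J).IsStrictlyGE a := (CochainComplex.isStrictlyGE_iff _ _).2 fun i hi =>
    (lF S).map_isZero (CochainComplex.isZero_of_isStrictlyGE J a i hi)
  haveI : ∀ n : ℤ, Injective ((locCx S J).X n) := fun n => injective_lF_obj S (J.X n) (hinj n)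
  exact CochainComplex.isKInjective_of_injective _ a

variable [IsNoetherianRing A] (p : PrimeSpectrum A)

theorem isDualizing_locCx (J : CochainComplex (ModuleCat.{u} A) ℤ) {ω : Dual.D A} (e : DerivedCategory.Q.obj J ≅ ω)
    (hω : Dual.IsDualizing A ω) :
    Dual.IsDualizing (Rp p) (DerivedCategory.Q.obj (locCx p.asIdeal.primeCompl J)) := by
  let B := Rp p
  haveI := KFlatLib.hasLBase (algebraMap A B)
  haveI : Module.Flat A B := IsLocalization.flat _ p.asIdeal.primeCompl
  haveI : IsNoetherianRing B := IsLocalization.isNoetherianRing p.asIdeal.primeCompl _ inferInstance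
  obtain ⟨_, ⟨e'⟩⟩ := KFlatLib.exists_LBase_map_iso (B := B) (DerivedCategory.Q.obj J)
  have h := KFlatLib.isDualizing_LBase (B := B) (KFlatLib.isDualizing_of_iso e.symm hω) fun m _ =>
    ⟨m.comap (algebraMap A B), IsLocalization.map_comap p.asIdeal.primeCompl _ m⟩
  obtain ⟨η⟩ := nonempty_extLF p.asIdeal.primeCompl
  refine KFlatLib.isDualizing_of_iso ?_ h
  exact e' ≪≫ (ModuleCat.extendScalars.{u, u, u} (algebraMap A B)).mapDerivedCategoryFactors.app J ≪≫
    DerivedCategory.Q.mapIso ((NatIso.mapHomologicalComplex η (ComplexShape.up ℤ)).app J)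

theorem exists_normalized {R : Type u} [CommRing R] [IsLocalRing R] {ω : Dual.D R} (hω : Dual.IsDualizing R ω) :
    ∃ n : PrimeSpectrum R → ℤ, KFlatLib.IsExtDegree ω n ∧
      Dual.IsDualizing R (ω⟦n (IsLocalRing.closedPoint R)⟧) ∧
      Dual.IsNormalized R (ω⟦n (IsLocalRing.closedPoint R)⟧) := by
  haveI := hω.isNoetherianRing
  obtain ⟨n, hn, -, -, -⟩ := KFlatLib.exists_extDegree hω
  refine ⟨n, hn, KFlatLib.isDualizing_shift hω _, fun i hi => ?_⟩
  let m := IsLocalRing.closedPoint R
  haveI : Subsingleton (Dual.inD R (IsLocalRing.ResidueField R) ⟶ ω⟦n m + i⟧) := by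
    have h := mt (hn m (n m + i)).1 (by omega)
    rw [not_nontrivial_iff_subsingleton] at h
    refine subsingleton_of_forall_eq 0 fun φ => ?_
    obtain ⟨s, hs, hsφ⟩ := LocalizedModule.subsingleton_iff.1 h φ
    have hu : IsUnit s := by
      by_contra hns
      exact hs ((IsLocalRing.mem_maximalIdeal s).2 hns)
    exact hu.smul_eq_zero.1 hsφ
  exact ((Iso.homCongr (Iso.refl (Dual.inD R (IsLocalRing.ResidueField R)))
    ((shiftFunctorAdd' (Dual.D R) (n m) i (n m + i) rfl).app ω))).symm.subsingleton

end Groth.Agent.GrLib8.ProZ
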