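import Groth.Agent.GrLib8.ProZ.Complex
import Groth.Agent.KFlatLib.Ring.RgammaHDI
import Groth.Agent.KFlatLib.Ring.DualizingRange

/-!
# Cohomology classes as maps in the derived category, and uniform stabilisation
-/

set_option autoImplicit false
set_option linter.style.haveILetI false
set_option backward.isDefEq.respectTransparency false

universe u

open CategoryTheory

attribute [local instance] HasDerivedCategory.standard

namespace Groth.Agent.GrLib8.ProZ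

variable {A : Type u} [CommRing A]

section Psi

variable (N : Type u) [AddCommGroup N] [Module A N] (J : CochainComplex (ModuleCat.{u} A) ℤ) [J.IsKInjective]

omit [J.IsKInjective] in
theorem ofHom_d {q : ℤ} (f : N →ₗ[A] J.X q) (hf : f ∈ Z N J q) : ModuleCat.ofHom f ≫ J.d q (q + 1) = 0 :=
  ModuleCat.hom_ext hf

/-- The map in the derived category of a cocycle. -/
noncomputable def psiL (q : ℤ) :
    ↥(Z N J q) →ₗ[A] (Dual.inD A N ⟶ (DerivedCategory.Q.obj J)⟦q⟧) where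
  toFun f := KFlatLib.RgammaHDI.psi J q (ModuleCat.of A N) (ModuleCat.ofHom f.1) (ofHom_d N J f.1 f.2)
  map_add' f g := KFlatLib.RgammaHDI.psi_add J q (ModuleCat.ofHom f.1) (ModuleCat.ofHom g.1) (ofHom_d N J f.1 f.2)
    (ofHom_d N J g.1 g.2)
  map_smul' r f := by
    have h : ModuleCat.ofHom (r • f : ↥(Z N J q)).1 = (r • 𝟙 (ModuleCat.of A N)) ≫ ModuleCat.ofHom f.1 :=
      ModuleCat.hom_ext (LinearMap.ext fun x => (map_smul f.1 r x).symm)
    simp only [h]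
    rw [KFlatLib.RgammaHDI.psi_precomp J q _ (ModuleCat.ofHom f.1) (ofHom_d N J f.1 f.2), Functor.map_smul, CategoryTheory.Functor.map_id, RingHom.id_apply]
    exact (Linear.smul_comp _ _ _ _ _ _).trans (congrArg (r • ·) (Category.id_comp _))

theorem psiL_apply (q : ℤ) (f : ↥(Z N J q)) :
    psiL N J q f = KFlatLib.RgammaHDI.psi J q (ModuleCat.of A N) (ModuleCat.ofHom f.1) (ofHom_d N J f.1 f.2) := rfl

theorem psiL_surjective (q : ℤ) : Function.Surjective (psiL N J q) := fun u => by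
  obtain ⟨f, hf, rfl⟩ := KFlatLib.RgammaHDI.psi_surjective J q (ModuleCat.of A N) u
  exact ⟨⟨f.hom, congrArg ModuleCat.Hom.hom hf⟩, rfl⟩

theorem psiL_eq_zero_iff (q : ℤ) (f : ↥(Z N J q)) : psiL N J q f = 0 ↔ f.1 ∈ B N J q := by
  rw [psiL_apply, KFlatLib.RgammaHDI.psi_eq_zero_iff]
  exact ⟨fun ⟨g, hg⟩ => ⟨g.hom, congrArg ModuleCat.Hom.hom hg⟩, fun ⟨g, hg⟩ => ⟨ModuleCat.ofHom g, ModuleCat.hom_ext hg⟩⟩

theorem psiL_natural {N' : Type u} [AddCommGroup N'] [Module A N'] (g : N' →ₗ[A] N) (q : ℤ) (f : ↥(Z N J q))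
    (h : f.1 ∘ₗ g ∈ Z N' J q) :
    psiL N' J q ⟨f.1 ∘ₗ g, h⟩ = (DerivedCategory.singleFunctor (ModuleCat.{u} A) 0).map (ModuleCat.ofHom g) ≫ psiL N J q f :=
  KFlatLib.RgammaHDI.psi_precomp J q (ModuleCat.ofHom g) (ModuleCat.ofHom f.1) (ofHom_d N J f.1 f.2)

/-- Cohomology as maps in the derived category. -/
noncomputable def equivE (q : ℤ) : E N J q ≃ₗ[A] (Dual.inD A N ⟶ (DerivedCategory.Q.obj J)⟦q⟧) :=
  (Submodule.quotEquivOfEq _ _ (Submodule.ext fun f => (psiL_eq_zero_iff N J q f).symm)).trans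
    (LinearMap.quotKerEquivOfSurjective _ (psiL_surjective N J q))

theorem finite_E [IsNoetherianRing A] [Module.Finite A N] {ω : Dual.D A} (e : DerivedCategory.Q.obj J ≅ ω) (a : ℤ)
    [ω.IsGE a] (hfin : ∀ i : ℤ, Module.Finite A (Dual.HD A ω i)) (q : ℤ) : Module.Finite A (E N J q) := by
  haveI := KFlatLib.finite_hom_module ω a hfin N q
  exact Module.Finite.equiv ((equivE N J q).trans
    (Linear.homCongr A (Iso.refl _) ((shiftFunctor (Dual.D A) q).mapIso e))).symm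

end Psi

section Uniform

variable {M : Type u} [AddCommGroup M] [Module A M] {J : CochainComplex (ModuleCat.{u} A) ℤ} (I : Ideal A)

theorem rs_mem_B {k l : ℕ} (h : k ≤ l) {p : ℤ} {f : ↥(N I M k) →ₗ[A] J.X p} (hf : f ∈ B ↥(N I M k) J p) :
    rs I h p f ∈ B ↥(N I M l) J p := by
  obtain ⟨e, rfl⟩ := hf
  exact ⟨rs I h (p - 1) e, rfl⟩

theorem rs_rs {k l l' : ℕ} (h : k ≤ l) (h' : l ≤ l') {p : ℤ} (f : ↥(N I M k) →ₗ[A] J.X p) :
    rs I h' p (rs I h p f) = rs I (h.trans h') p f := rfl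

theorem rs_r0 {k l : ℕ} (h : k ≤ l) {p : ℤ} (f : M →ₗ[A] J.X p) : rs I h p (r0 I k p f) = r0 I l p f := rfl

theorem exists_uniform [IsNoetherianRing A]
    (hfin : ∀ k p, Module.Finite A (E ↥(N I M k) J p)) (a b : ℤ) (hab : ∀ p, p < a ∨ b < p → Subsingleton (J.X p))
    (C : ∀ (k : ℕ) (p : ℤ), Submodule A (↥(N I M k) →ₗ[A] J.X p)) (hB : ∀ k p, B ↥(N I M k) J p ≤ C k p)
    (hC : ∀ {k l : ℕ} (h : k ≤ l) (p : ℤ), ∀ f ∈ C k p, rs I h p f ∈ C l p) (m : ℕ) :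
    ∃ K, m ≤ K ∧ ∀ (p : ℤ) (φ : ↥(N I M m) →ₗ[A] J.X p), φ ∈ Z ↥(N I M m) J p →
      (∃ (k : ℕ) (h : m ≤ k), rs I h p φ ∈ C k p) → ∀ (k : ℕ) (h : m ≤ k), K ≤ k → rs I h p φ ∈ C k p := by
  classical
  have hp : ∀ p : ℤ, ∃ K, ∀ φ : ↥(N I M m) →ₗ[A] J.X p, φ ∈ Z ↥(N I M m) J p →
      (∃ (k : ℕ) (h : m ≤ k), rs I h p φ ∈ C k p) → ∀ (k : ℕ) (h : m ≤ k), K ≤ k → rs I h p φ ∈ C k p := by
    intro p
    haveI := hfin m p
    let q := ((B ↥(N I M m) J p).comap (Z ↥(N I M m) J p).subtype)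
    let U : ℕ → Submodule A (E ↥(N I M m) J p) := fun k =>
      ((C (m + k) p).comap (rs I (Nat.le_add_right m k) p ∘ₗ (Z ↥(N I M m) J p).subtype)).map q.mkQ
    have hU : Monotone U := fun k l hkl => Submodule.map_mono fun z hz => by
      show rs I (Nat.le_add_right m l) p z.1 ∈ C (m + l) p
      rw [← rs_rs I (Nat.le_add_right m k) (by omega : m + k ≤ m + l) z.1]
      exact hC _ p _ hz
    obtain ⟨K, hK⟩ := monotone_stabilizes_iff_noetherian.2 (inferInstance : IsNoetherian A (E ↥(N I M m) J p)) ⟨U, hU⟩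
    refine ⟨m + K, fun φ hφ ⟨k₀, h₀, hk₀⟩ k h hk => ?_⟩
    obtain ⟨d₀, rfl⟩ := Nat.le.dest h₀
    obtain ⟨d, rfl⟩ := Nat.le.dest h
    have h1 : q.mkQ ⟨φ, hφ⟩ ∈ U d := by
      have h2 : q.mkQ ⟨φ, hφ⟩ ∈ U (max d₀ K) := hU (le_max_left _ _) ⟨⟨φ, hφ⟩, hk₀, rfl⟩
      rw [show U d = U K from (hK d (by omega)).symm]
      rw [show U (max d₀ K) = U K from (hK _ (le_max_right _ _)).symm] at h2
      exact h2
    obtain ⟨z, hz, hzφ⟩ := h1
    rw [Submodule.mkQ_apply, Submodule.mkQ_apply, Submodule.Quotient.eq] at hzφ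
    have h3 : rs I h p (z.1 - φ) ∈ C (m + d) p := hB _ p (rs_mem_B I h hzφ)
    rw [map_sub] at h3
    simpa using sub_mem (show rs I h p z.1 ∈ C (m + d) p from hz) h3
  choose K hK using hp
  refine ⟨max m ((Finset.Icc a b).sup K), le_max_left _ _, fun p φ hφ hex k h hk => ?_⟩
  by_cases hp : p ∈ Finset.Icc a b
  · exact hK p φ hφ hex k h ((Finset.le_sup hp).trans ((le_max_right _ _).trans hk))
  · rw [Finset.mem_Icc] at hp
    haveI : Subsingleton (J.X p) := hab p (by omega)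
    rw [show rs I h p φ = 0 from LinearMap.ext fun z => Subsingleton.elim _ _]
    exact zero_mem _

end Uniform

end Groth.Agent.GrLib8.ProZ
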