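import Groth.Agent.GrLib8.ProZ.Vanish
import Groth.Agent.GrLib8.ProZ.Uniform
import Groth.Agent.S11618
import Groth.Agent.S0328

/-!
# The vanishing hypotheses at a prime of the support
-/

set_option autoImplicit false
set_option linter.style.haveILetI false
set_option backward.isDefEq.respectTransparency false

universe u

open CategoryTheory IsLocalRing

attribute [local instance] HasDerivedCategory.standard

namespace Groth.Agent.GrLib8.ProZ

variable {A : Type u} [CommRing A] [IsNoetherianRing A]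

theorem kills_H_of_support (I : Ideal A) (S : Submonoid A) (l : ℕ) (X : Type u) [AddCommGroup X] [Module A X]
    [Module.Finite A X]
    (h : ∀ P ∈ Module.support A X, ∀ z : (localCohomology I l).obj (ModuleCat.of A (A ⧸ P.asIdeal)), Kills S z) :
    ∀ z : (localCohomology I l).obj (ModuleCat.of A X), Kills S z := by
  revert h
  refine IsNoetherianRing.induction_on_isQuotientEquivQuotientPrime (A := A) (M := X) ‹_›
    (motive := fun N _ _ _ => (∀ P ∈ Module.support A N,
      ∀ z : (localCohomology I l).obj (ModuleCat.of A (A ⧸ P.asIdeal)), Kills S z) →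
      ∀ z : (localCohomology I l).obj (ModuleCat.of A N), Kills S z) ?_ ?_ ?_
  · intro N _ _ _ _ _ z
    exact ⟨1, one_mem _, @Subsingleton.elim _ (LC.subsingleton_H_of_subsingleton I _ l) _ _⟩
  · intro N _ _ _ q e hN
    refine kills_of_equiv I S e.symm l (hN q ?_)
    rw [e.support_eq, Module.support_eq_zeroLocus, Ideal.annihilator_quotient]
    exact fun _ hx => hx
  · intro N₁ _ _ _ N₂ _ _ _ N₃ _ _ _ f g hf hg hfg h1 h3 hN z
    obtain ⟨w, hS⟩ := KFlatLib.exists_ses_of_exact hf hg hfg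
    obtain ⟨t, ht, h0⟩ := h3 (fun q hq => hN q (Module.support_subset_of_surjective g hg hq))
      (((localCohomology I l).map (ModuleCat.ofHom g)).hom z)
    obtain ⟨y, hy⟩ := ((LC.exact₂ I l hS) (t • (show (localCohomology I l).obj (ModuleCat.of A N₂) from z))).1
      (by rw [map_smul]; exact h0)
    obtain ⟨t', ht', h1'⟩ := h1 (fun q hq => hN q (Module.support_subset_of_injective f hf hq)) y
    refine ⟨t' * t, mul_mem ht' ht, ?_⟩
    rw [mul_smul]
    refine (congrArg (t' • ·) hy.symm).trans ?_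
    exact ((((localCohomology I l).map (ModuleCat.ofHom f)).hom).map_smul t' y).symm.trans
      ((congrArg ((localCohomology I l).map (ModuleCat.ofHom f)).hom h1').trans (map_zero _))

theorem kills_of_loc (I : Ideal A) (q P : PrimeSpectrum A) (l : ℕ)
    (h : Subsingleton ((localCohomology (I.map (algebraMap A (Localization.AtPrime q.asIdeal))) l).obj
      (ModuleCat.of (Localization.AtPrime q.asIdeal)
        (Localization.AtPrime q.asIdeal ⧸ P.asIdeal.map (algebraMap A (Localization.AtPrime q.asIdeal))))))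
    (z : (localCohomology I l).obj (ModuleCat.of A (A ⧸ P.asIdeal))) : Kills q.asIdeal.primeCompl z := by
  obtain ⟨e⟩ := Groth.Agent.S11618.result A I q.asIdeal.primeCompl (A ⧸ P.asIdeal) l
  have h1 := LC.subsingleton_H_of_equiv (I.map (algebraMap A (Localization.AtPrime q.asIdeal)))
    ((LocalizedModule.equivTensorProduct q.asIdeal.primeCompl _).trans
      (Algebra.TensorProduct.quotIdealMapEquivTensorQuot (Localization.AtPrime q.asIdeal) P.asIdeal).toLinearEquiv.symm).symm
    l h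
  obtain ⟨t, ht, h0⟩ := LocalizedModule.subsingleton_iff.1 (@Equiv.subsingleton _ _ e.toEquiv h1) z
  exact ⟨t, ht, h0⟩

variable {ω : Dual.D A} (I : Ideal A) {d : ℕ} (M : Type u) [AddCommGroup M] [Module A M] [Module.Finite A M]
  (T : Set (PrimeSpectrum A)) (s : ℕ)

/-- The depth condition off the support. -/
def H4 (d : ℕ) : Prop := ∀ p r q : PrimeSpectrum A, p ≤ r → r ≤ q → ¬ I ≤ p.asIdeal → I ≤ r.asIdeal → r ∉ T → q ∈ T →
  (s : ℕ∞) ≤ LocCoh.depth (Localization.AtPrime p.asIdeal) (LocalizedModule p.asIdeal.primeCompl M) ∨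
    ((d + s : ℕ) : WithBot ℕ∞) < (LocCoh.depth (Localization.AtPrime p.asIdeal)
      (LocalizedModule p.asIdeal.primeCompl M) : WithBot ℕ∞) + Formal2.dimBetween A p.asIdeal q.asIdeal

theorem exists_dim_eq {n : PrimeSpectrum A → ℤ} (hcov : ∀ p q : PrimeSpectrum A, p ⋖ q → n q = n p + 1)
    (hmono : StrictMono n) (P q : PrimeSpectrum A) (hPq : P ≤ q) :
    ∃ δ : ℕ, Formal2.dimBetween A P.asIdeal q.asIdeal = ((δ : ℕ∞) : WithBot ℕ∞) ∧ (δ : ℤ) = n q - n P := by
  let R := Localization.AtPrime q.asIdeal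
  haveI : IsNoetherianRing R := IsLocalization.isNoetherianRing q.asIdeal.primeCompl _ inferInstance
  let f : PrimeSpectrum R → PrimeSpectrum A := PrimeSpectrum.comap (algebraMap A R)
  have hle : ∀ x, f x ≤ q := fun x => (Ideal.comap_mono (le_maximalIdeal x.2.ne_top)).trans
    (le_of_eq (Localization.AtPrime.comap_maximalIdeal (I := q.asIdeal)))
  have hsurj : ∀ y : PrimeSpectrum A, y ≤ q → ∃ x, f x = y := fun y hy => by
    have hd : Disjoint (q.asIdeal.primeCompl : Set A) (y.asIdeal : Set A) :=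
      Set.disjoint_left.2 fun x hx hxy => hx (hy hxy)
    exact ⟨⟨y.asIdeal.map (algebraMap A R), IsLocalization.isPrime_of_isPrime_disjoint q.asIdeal.primeCompl R _ y.2 hd⟩,
      PrimeSpectrum.ext (IsLocalization.comap_map_of_isPrime_disjoint q.asIdeal.primeCompl R y.2 hd)⟩
  have hf : ∀ x y, f x ≤ f y → x ≤ y := fun x y h => by
    show x.asIdeal ≤ y.asIdeal
    rw [← IsLocalization.map_comap q.asIdeal.primeCompl R x.asIdeal,
      ← IsLocalization.map_comap q.asIdeal.primeCompl R y.asIdeal]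
    exact Ideal.map_mono h
  have hm : Monotone f := fun x y h => Ideal.comap_mono h
  have hmono' : StrictMono (n ∘ f) := fun x y h => hmono (lt_of_le_not_ge (hm h.le) fun h' => h.not_ge (hf _ _ h'))
  have hcov' : ∀ x y : PrimeSpectrum R, x ⋖ y → (n ∘ f) y = (n ∘ f) x + 1 := fun x y h => hcov _ _ ⟨
    lt_of_le_not_ge (hm h.le) fun h' => h.lt.not_ge (hf _ _ h'), fun z h1 h2 => by
      obtain ⟨z, rfl⟩ := hsurj z (h2.le.trans (hle y))
      exact h.2 (lt_of_le_not_ge (hf _ _ h1.le) fun h' => h1.not_ge (hm h'))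
        (lt_of_le_not_ge (hf _ _ h2.le) fun h' => h2.not_ge (hm h'))⟩
  obtain ⟨x, hx⟩ := hsurj P hPq
  obtain ⟨δ, hδ, hδ'⟩ := KFlatLib.ringKrullDim_quotient_eq hcov' hmono' x
  refine ⟨δ, ?_, ?_⟩
  · show ringKrullDim (R ⧸ P.asIdeal.map (algebraMap A R)) = _
    rw [← hx, show (f x).asIdeal.map (algebraMap A R) = x.asIdeal from IsLocalization.map_comap q.asIdeal.primeCompl R x.asIdeal, hδ]
    rfl
  · have hc : f (closedPoint R) = q := PrimeSpectrum.ext (Localization.AtPrime.comap_maximalIdeal (I := q.asIdeal))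
    simp only [Function.comp_apply, hc, hx] at hδ'
    exact hδ'

variable {I M T s}

theorem numbers (hω : Dual.IsDualizing A ω) {n : PrimeSpectrum A → ℤ} (hn : KFlatLib.IsExtDegree ω n) (p : ℤ)
    {P : PrimeSpectrum A} (hP : P ∈ Module.support A (Dual.inD A M ⟶ ω⟦p⟧)) :
    ∃ δP : ℕ, LocCoh.depth (Localization.AtPrime P.asIdeal) (LocalizedModule P.asIdeal.primeCompl M) = δP ∧
      p + δP ≤ n P := by
  obtain ⟨δP, dd, h1, h2⟩ := KFlatLib.exists_depth_dim P M (KFlatLib.support_hom_subset M _ hP)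
  have h3 := ((KFlatLib.localized_ext_range hω hn P M δP dd h1 h2).1 p hP).2
  exact ⟨δP, h1, by omega⟩

theorem s_le_depth (h4 : H4 I M T s d) (h6 : ∀ q ∈ T, Bootstrap.H6 I M s q) {P q : PrimeSpectrum A} (hPq : P ≤ q)
    (hIP : ¬ I ≤ P.asIdeal) (hq : q ∈ T) (hIq : I ≤ q.asIdeal) {δP δ : ℕ}
    (h1 : LocCoh.depth (Localization.AtPrime P.asIdeal) (LocalizedModule P.asIdeal.primeCompl M) = δP)
    (h2 : Formal2.dimBetween A P.asIdeal q.asIdeal = ((δ : ℕ∞) : WithBot ℕ∞)) (h3 : δP + δ ≤ d + s) :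
    s ≤ δP := by
  by_cases hr : ∃ r : PrimeSpectrum A, P ≤ r ∧ r ≤ q ∧ I ≤ r.asIdeal ∧ r ∉ T
  · obtain ⟨r, ha, hb, hc, hd⟩ := hr
    rcases h4 P r q ha hb hIP hc hd hq with h | h
    · rw [h1] at h
      exact_mod_cast h
    · rw [h1, h2] at h
      have : d + s < δP + δ := by exact_mod_cast h
      omega
  · push Not at hr
    have h := Bootstrap.lt_depth_of_no_between I M T s h6 P q hPq hIP hIq hr
    rw [h1] at h
    exact le_of_lt (by exact_mod_cast h)

theorem one_le_of_cdLE (hcd : LocCoh.CdLE A I d) {P r : PrimeSpectrum A} (hPr : P ≤ r) (hIP : ¬ I ≤ P.asIdeal)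
    (hIr : I ≤ r.asIdeal) : 1 ≤ d := by
  by_contra hd
  obtain ⟨r₀, hr₀, -⟩ := Ideal.exists_minimalPrimes_le (sup_le hPr hIr : P.asIdeal ⊔ I ≤ r.asIdeal)
  haveI := hr₀.1.1
  let R := Localization.AtPrime r₀
  haveI : IsNoetherianRing R := IsLocalization.isNoetherianRing r₀.primeCompl _ inferInstance
  have hPr₀ : P.asIdeal ≤ r₀ := le_sup_left.trans hr₀.1.2
  have hdisj : Disjoint (r₀.primeCompl : Set A) (P.asIdeal : Set A) :=
    Set.disjoint_left.2 fun x hx hxy => hx (hPr₀ hxy)
  haveI := IsLocalization.isPrime_of_isPrime_disjoint r₀.primeCompl R P.asIdeal inferInstance hdisj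
  have hIm : I.map (algebraMap A R) ≤ maximalIdeal R :=
    (Ideal.map_mono (le_sup_right.trans hr₀.1.2)).trans Localization.AtPrime.map_eq_maximalIdeal.le
  have hne : P.asIdeal.map (algebraMap A R) ≠ maximalIdeal R := fun h => hIP (by
    rw [← IsLocalization.comap_map_of_isPrime_disjoint r₀.primeCompl R P.2 hdisj, h, Localization.AtPrime.comap_maximalIdeal]
    exact le_sup_right.trans hr₀.1.2)
  obtain ⟨e, he⟩ : ∃ e : ℕ, ringKrullDim (R ⧸ P.asIdeal.map (algebraMap A R)) = e :=
    ⟨_, FormCat.coe_qd R _ (Ideal.IsPrime.ne_top inferInstance)⟩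
  have he1 : 1 ≤ e := by
    by_contra he0
    obtain rfl : e = 0 := by omega
    apply hne
    haveI : Ring.KrullDimLE 0 (R ⧸ P.asIdeal.map (algebraMap A R)) := Ring.krullDimLE_iff.2 he.le
    exact IsLocalRing.eq_maximalIdeal
      ((Ideal.Quotient.maximal_ideal_iff_isField_quotient _).2 Ring.KrullDimLE.isField_of_isDomain)
  refine Groth.Agent.S0328.result R (I.map (algebraMap A R))
    (ne_top_of_le_ne_top (maximalIdeal.isMaximal R).ne_top hIm) (P.asIdeal.map (algebraMap A R)) ?_ e he he1 ?_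
  · refine le_antisymm ((maximalIdeal.isMaximal R).isPrime.radical_le_iff.2
      (sup_le (le_maximalIdeal (Ideal.IsPrime.ne_top inferInstance)) hIm)) ?_
    rw [Ideal.radical_eq_sInf]
    refine le_sInf fun Q hQ => ?_
    haveI := hQ.2
    have h1 : Q.comap (algebraMap A R) = r₀ := by
      have hle : Q.comap (algebraMap A R) ≤ r₀ := (Ideal.comap_mono (le_maximalIdeal hQ.2.ne_top)).trans
        (le_of_eq (Localization.AtPrime.comap_maximalIdeal (I := r₀)))
      exact le_antisymm hle (hr₀.2 ⟨inferInstance, sup_le (Ideal.map_le_iff_le_comap.1 (le_sup_left.trans hQ.1))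
        (Ideal.map_le_iff_le_comap.1 (le_sup_right.trans hQ.1))⟩ hle)
    exact ((Localization.AtPrime.map_eq_maximalIdeal (I := r₀)).symm.trans
      ((congrArg (Ideal.map (algebraMap A R)) h1.symm).trans (IsLocalization.map_comap r₀.primeCompl R Q))).le
  · intro X _ _ i hi
    exact LC.cdLE_map (R := A) (I := I) R hcd X i (by omega)

variable (hω : Dual.IsDualizing A ω) {n : PrimeSpectrum A → ℤ} (hn : KFlatLib.IsExtDegree ω n)
  (hcov : ∀ p q : PrimeSpectrum A, p ⋖ q → n q = n p + 1) (hmono : StrictMono n)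
  (h4 : H4 I M T s d) (h6 : ∀ q ∈ T, Bootstrap.H6 I M s q) {q : PrimeSpectrum A} (hq : q ∈ T) (hIq : I ≤ q.asIdeal)

include hω hn hcov hmono h4 h6 hq hIq in
theorem kills_H_ext (hcd : LocCoh.CdLE A I d) (p : ℤ) (l : ℕ) (hl : 1 ≤ l) (hlp : n q - s ≤ l + p)
    (X : Type u) [AddCommGroup X] [Module A X] [Module.Finite A X]
    (hX : Module.support A X ⊆ Module.support A (Dual.inD A M ⟶ ω⟦p⟧))
    (z : (localCohomology I l).obj (ModuleCat.of A X)) : Kills q.asIdeal.primeCompl z := by
  refine kills_H_of_support I _ l X (fun P hP z => ?_) z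
  by_cases hPq : P ≤ q
  swap
  · obtain ⟨t, htP, htq⟩ := SetLike.not_le_iff_exists.1 (show ¬ P.asIdeal ≤ q.asIdeal from hPq)
    refine ⟨t, htq, LC.smul_eq_zero_of_forall I l t (fun x => ?_) z⟩
    obtain ⟨c, rfl⟩ := Ideal.Quotient.mk_surjective (show A ⧸ P.asIdeal from x)
    exact Ideal.Quotient.eq_zero_iff_mem.2 (P.asIdeal.mul_mem_right c htP)
  obtain ⟨l, rfl⟩ : ∃ l', l = l' + 1 := ⟨l - 1, by omega⟩
  by_cases hIP : I ≤ P.asIdeal
  · refine ⟨1, one_mem _, @Subsingleton.elim _ (LC.subsingleton_of_torsion I l _ fun x => ⟨1, fun a ha => ?_⟩) _ _⟩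
    rw [pow_one] at ha
    obtain ⟨c, rfl⟩ := Ideal.Quotient.mk_surjective (show A ⧸ P.asIdeal from x)
    exact Ideal.Quotient.eq_zero_iff_mem.2 (P.asIdeal.mul_mem_right c (hIP ha))
  obtain ⟨δP, hδP, hp⟩ := numbers hω hn p (hX hP)
  obtain ⟨δ, hδ, hδ'⟩ := exists_dim_eq hcov hmono P q hPq
  by_cases hdl : d < l + 1
  · exact ⟨1, one_mem _, @Subsingleton.elim _ (hcd (A ⧸ P.asIdeal) (l + 1) hdl) _ _⟩
  refine kills_of_loc I q P (l + 1) ?_ z
  let R := Localization.AtPrime q.asIdeal
  haveI : IsNoetherianRing R := IsLocalization.isNoetherianRing q.asIdeal.primeCompl _ inferInstance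
  by_cases hδl : δ < l + 1
  · refine LC.subsingleton_H_of_supportDim_lt _ _ _ ?_
    rw [Module.supportDim_quotient_eq_ringKrullDim, show ringKrullDim (R ⧸ P.asIdeal.map (algebraMap A R)) = _ from hδ]
    exact_mod_cast hδl
  have hsle := s_le_depth h4 h6 hPq hIP hq hIq hδP hδ (by omega)
  obtain rfl : δ = l + 1 := by omega
  have hdisj : Disjoint (q.asIdeal.primeCompl : Set A) (P.asIdeal : Set A) :=
    Set.disjoint_left.2 fun x hx hxy => hx (hPq hxy)
  haveI := IsLocalization.isPrime_of_isPrime_disjoint q.asIdeal.primeCompl R P.asIdeal inferInstance hdisj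
  have hc := IsLocalization.comap_map_of_isPrime_disjoint q.asIdeal.primeCompl R P.2 hdisj
  haveI : Module.Finite R (LocalizedModule q.asIdeal.primeCompl M) :=
    Module.Finite.of_isLocalizedModule q.asIdeal.primeCompl (LocalizedModule.mkLinearMap _ M)
  refine subsingleton_H_top R (I.map (algebraMap A R)) (LocalizedModule q.asIdeal.primeCompl M)
    ((Ideal.map_mono hIq).trans Localization.AtPrime.map_eq_maximalIdeal.le) s (fun P' h1 h2 => ?_)
    (P.asIdeal.map (algebraMap A R)) (fun hle => hIP (by rw [← hc]; exact Ideal.map_le_iff_le_comap.1 hle)) ?_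
    (l + 1) hδ
  · refine h6 q hq P' (by rw [Bootstrap.map_map_completion]; exact h1) fun Q ha hb => h2 Q ha ?_
    rw [← Bootstrap.map_map_completion]
    exact hb
  · rw [Bootstrap.depth_loc_eq M q _ P.asIdeal hc, hδP]
    exact_mod_cast (show δP ≤ s by omega)

include hω hn hcov hmono h4 h6 hq hIq in
theorem torsion_ext (hcd : LocCoh.CdLE A I d) (p : ℤ) (hp : n q - (s + 1) ≤ p) (X : Type u) [AddCommGroup X] [Module A X] [Module.Finite A X]
    (hX : Module.support A X ⊆ Module.support A (Dual.inD A M ⟶ ω⟦p⟧)) (e : X) :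
    ∃ t ∈ q.asIdeal.primeCompl, ∃ k : ℕ, ∀ x ∈ I ^ k, x • t • e = 0 := by
  classical
  let R := Localization.AtPrime q.asIdeal
  have key : I.map (algebraMap A R) ≤ ((Module.annihilator A X).map (algebraMap A R)).radical := by
    rw [Ideal.radical_eq_sInf]
    refine le_sInf fun Q hQ => ?_
    haveI := hQ.2
    let P : PrimeSpectrum A := ⟨Q.comap (algebraMap A R), inferInstance⟩
    have hPq : P ≤ q := (Ideal.comap_mono (le_maximalIdeal hQ.2.ne_top)).trans
      (le_of_eq (Localization.AtPrime.comap_maximalIdeal (I := q.asIdeal)))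
    have hPX : P ∈ Module.support A X := by
      rw [Module.support_eq_zeroLocus]
      exact Ideal.map_le_iff_le_comap.1 hQ.1
    refine Ideal.map_le_iff_le_comap.2 ?_
    by_contra hIP
    obtain ⟨δP, hδP, hp'⟩ := numbers hω hn p (hX hPX)
    obtain ⟨δ, hδ, hδ'⟩ := exists_dim_eq hcov hmono P q hPq
    have hne : P ≠ q := fun h => hIP (show I ≤ P.asIdeal by rw [h]; exact hIq)
    have h1 := hmono (lt_of_le_of_ne hPq hne)
    by_cases hr : ∃ r : PrimeSpectrum A, P ≤ r ∧ r ≤ q ∧ I ≤ r.asIdeal ∧ r ∉ T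
    · obtain ⟨r, ha, hb, hc, hd'⟩ := hr
      have hPr : P < r := lt_of_le_of_ne ha fun h => hIP (show I ≤ P.asIdeal by rw [h]; exact hc)
      have hrq : r < q := lt_of_le_of_ne hb fun h => hd' (h ▸ hq)
      have h2 := hmono hPr
      have h3 := hmono hrq
      have h5 := one_le_of_cdLE hcd ha hIP hc
      rcases h4 P r q ha hb hIP hc hd' hq with h | h
      · rw [hδP] at h
        have : s ≤ δP := by exact_mod_cast h
        omega
      · rw [hδP, hδ] at h
        have : d + s < δP + δ := by exact_mod_cast h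
        omega
    · push Not at hr
      have h := Bootstrap.lt_depth_of_no_between I M T s h6 P q hPq hIP hIq hr
      rw [hδP] at h
      have : s < δP := by exact_mod_cast h
      omega
  obtain ⟨k, hk⟩ := Ideal.exists_pow_le_of_le_radical_of_fg key (Ideal.FG.map (IsNoetherian.noetherian I) _)
  obtain ⟨G, hG⟩ := (IsNoetherian.noetherian (I ^ k) : (I ^ k).FG)
  have hg : ∀ g : ↥G, ∃ t ∈ q.asIdeal.primeCompl, t * (g : A) ∈ Module.annihilator A X := fun g => by
    have h1 : algebraMap A R g ∈ (Module.annihilator A X).map (algebraMap A R) := hk (by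
      rw [← Ideal.map_pow]
      exact Ideal.mem_map_of_mem _ (hG ▸ Ideal.subset_span g.2))
    obtain ⟨t, ht, h2⟩ := (IsLocalization.algebraMap_mem_map_algebraMap_iff q.asIdeal.primeCompl R _ _).1 h1
    exact ⟨t, ht, h2⟩
  choose t ht htg using hg
  refine ⟨∏ g, t g, Submonoid.prod_mem _ fun g _ => ht g, k, fun x hx => ?_⟩
  rw [← hG] at hx
  induction hx using Submodule.span_induction with
  | mem y hy =>
    rw [← mul_smul, ← Finset.prod_erase_mul _ _ (Finset.mem_univ (⟨y, hy⟩ : ↥G)), mul_left_comm, mul_smul,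
      Module.mem_annihilator.1 (by rw [mul_comm]; exact htg ⟨y, hy⟩) e, smul_zero]
  | zero => rw [zero_smul]
  | add a b _ _ ha hb => rw [add_smul, ha, hb, add_zero]
  | smul c a _ ha => rw [smul_eq_mul, mul_smul, ha, smul_zero]

end Groth.Agent.GrLib8.ProZ
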