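import Groth.Agent.LC.CohLoc
import Groth.Agent.LC.CdDim
import Mathlib.Algebra.Module.FinitePresentation

/-!
# Homomorphisms into an injective module are acyclic for local cohomology
-/

set_option autoImplicit false
set_option linter.style.haveILetI false

universe u

open CategoryTheory

namespace Groth.Agent.GrLib8.ProZ

variable {A : Type u} [CommRing A] [IsNoetherianRing A] (M : Type u) [AddCommGroup M] [Module A M]
  [Module.Finite A M]

theorem exists_section (E : Type u) [AddCommGroup E] [Module A E] [Module.Injective A E] (b : A) :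
    ∃ σ : LocalizedModule (Submonoid.powers b) E →ₗ[A] E,
      (LocalizedModule.mkLinearMap (Submonoid.powers b) E) ∘ₗ σ = LinearMap.id := by
  let g := LocalizedModule.mkLinearMap (Submonoid.powers b) E
  let T := ⨆ n : ℕ, Submodule.torsionBySet A E ((((Ideal.span {b}) ^ n : Ideal A)) : Set A)
  have hT : Module.Injective A T := LC.injective_torsion (Ideal.span {b})
  have hker : ∀ x, g x = 0 ↔ x ∈ T := by
    intro x
    rw [LC.mem_iSup_torsionBySet, show g x = 0 ↔ ∃ c : Submonoid.powers b, c • x = 0 from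
      IsLocalizedModule.eq_zero_iff (Submonoid.powers b) g]
    constructor
    · rintro ⟨⟨_, n, rfl⟩, hc⟩
      refine ⟨n, fun a ha => ?_⟩
      rw [Ideal.span_singleton_pow, Ideal.mem_span_singleton] at ha
      obtain ⟨a, rfl⟩ := ha
      rw [mul_comm, mul_smul]
      exact (congrArg (a • ·) hc).trans (smul_zero a)
    · rintro ⟨n, hn⟩
      exact ⟨⟨b ^ n, n, rfl⟩, hn _ (Ideal.pow_mem_pow (Ideal.mem_span_singleton_self b) n)⟩
  obtain ⟨r, hr⟩ := LC.exists_extension T.subtype Subtype.val_injective (LinearMap.id : T →ₗ[A] T)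
  let h : E →ₗ[A] E := LinearMap.id - T.subtype ∘ₗ r
  have hh : LinearMap.ker g ≤ LinearMap.ker h := fun x hx => by
    have h1 : x ∈ T := (hker x).1 hx
    show x - (r x : E) = 0
    rw [show r x = (⟨x, h1⟩ : T) from LinearMap.congr_fun hr ⟨x, h1⟩]
    exact sub_self x
  let e := LinearMap.quotKerEquivOfSurjective g (LC.surjective_mkLinearMap_of_injective E b)
  refine ⟨(LinearMap.ker g).liftQ h hh ∘ₗ e.symm.toLinearMap, LinearMap.ext fun z => ?_⟩
  obtain ⟨x, rfl⟩ := LC.surjective_mkLinearMap_of_injective E b z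
  have he : e.symm (g x) = Submodule.Quotient.mk x := by
    rw [LinearEquiv.symm_apply_eq]
    rfl
  show g ((LinearMap.ker g).liftQ h hh (e.symm (g x))) = g x
  rw [he, Submodule.liftQ_apply]
  show g (x - (r x : E)) = g x
  rw [map_sub, (hker _).2 (r x).2, sub_zero]

theorem exists_hom_section (E : Type u) [AddCommGroup E] [Module A E] [Module.Injective A E] (b : A) :
    ∃ τ : LocalizedModule (Submonoid.powers b) (M →ₗ[A] E) →ₗ[A] (M →ₗ[A] E),
      (LocalizedModule.mkLinearMap (Submonoid.powers b) (M →ₗ[A] E)) ∘ₗ τ = LinearMap.id := by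
  obtain ⟨σ, hσ⟩ := exists_section E b
  let S := Submonoid.powers b
  let g := LocalizedModule.mkLinearMap S E
  let post : (M →ₗ[A] E) →ₗ[A] (M →ₗ[A] LocalizedModule S E) := LinearMap.llcomp A M E _ g
  have hu : ∀ s : S, IsUnit (algebraMap A (Module.End A (M →ₗ[A] LocalizedModule S E)) s) := by
    intro s
    rw [Module.End.isUnit_iff]
    have h := (Module.End.isUnit_iff _).1 (IsLocalizedModule.map_units g s)
    refine ⟨fun x y e => LinearMap.ext fun m => h.1 (LinearMap.congr_fun e m), fun y => ?_⟩
    refine ⟨((IsLocalizedModule.map_units g s).unit⁻¹).1 ∘ₗ y, LinearMap.ext fun m => ?_⟩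
    exact Module.End.isUnit_apply_inv_apply_of_isUnit (IsLocalizedModule.map_units g s) (y m)
  let ψ := LocalizedModule.lift S post hu
  let mk := LocalizedModule.mkLinearMap S (M →ₗ[A] E)
  refine ⟨(LinearMap.llcomp A M _ E σ) ∘ₗ ψ, ?_⟩
  refine IsLocalizedModule.ext S mk (IsLocalizedModule.map_units mk) ?_
  refine LinearMap.ext fun x => ?_
  show mk (σ ∘ₗ (ψ (mk x))) = mk x
  rw [show ψ (mk x) = g ∘ₗ x from LinearMap.congr_fun (LocalizedModule.lift_comp S post hu) x]
  have hd : g ∘ₗ (σ ∘ₗ (g ∘ₗ x) - x) = 0 := by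
    refine LinearMap.ext fun m => ?_
    show g (σ (g (x m)) - x m) = 0
    rw [map_sub, show g (σ (g (x m))) = g (x m) from LinearMap.congr_fun hσ (g (x m)), sub_self]
  obtain ⟨c, hc⟩ := Module.Finite.exists_smul_of_comp_eq_of_isLocalizedModule S g
    (g₁ := σ ∘ₗ (g ∘ₗ x)) (g₂ := x) (by rwa [LinearMap.comp_sub, sub_eq_zero] at hd)
  exact (IsLocalizedModule.eq_iff_exists S mk).2 ⟨c, hc⟩

/-- Homomorphisms out of a finite module into an injective module have no higher local cohomology. -/
theorem subsingleton_H_hom (I : Ideal A) : ∀ (E : Type u) [AddCommGroup E] [Module A E] [Module.Injective A E]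
    (i : ℕ), Subsingleton ((localCohomology I (i + 1)).obj (ModuleCat.of A (M →ₗ[A] E))) := by
  obtain ⟨s, rfl⟩ := (IsNoetherian.noetherian I : I.FG)
  classical
  induction s using Finset.induction with
  | empty =>
    intro E _ _ _ i
    refine LC.subsingleton_of_torsion _ i _ fun f => ⟨1, fun a ha => ?_⟩
    rw [pow_one, Finset.coe_empty] at ha
    rw [show a = 0 by simpa using ha, zero_smul]
  | insert b s _ ih =>
    intro E _ _ _ i
    let X := ModuleCat.of A (M →ₗ[A] E)
    have hI : Ideal.span ((insert b s : Finset A) : Set A) = Ideal.span (s : Set A) ⊔ Ideal.span {b} := by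
      rw [Finset.coe_insert, Ideal.span_insert, sup_comm]
    rw [show Submodule.span A ((insert b s : Finset A) : Set A) = _ from hI]
    let a := Ideal.span (s : Set A)
    haveI := ih E i
    obtain ⟨τ, hτ⟩ := exists_hom_section M E b
    have hsurj : ∀ j, Function.Surjective ((localCohomology a j).map ((LC.locNat b).app X)).hom := fun j z => by
      refine ⟨((localCohomology a j).map (ModuleCat.ofHom τ : (LC.locF b).obj X ⟶ X)).hom z, ?_⟩
      have h1 : (ModuleCat.ofHom τ : (LC.locF b).obj X ⟶ X) ≫ (LC.locNat b).app X = 𝟙 _ := ModuleCat.hom_ext hτ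
      exact (ConcreteCategory.congr_hom (((localCohomology a j).map_comp
        (ModuleCat.ofHom τ : (LC.locF b).obj X ⟶ X) ((LC.locNat b).app X)).symm.trans
        ((congrArg (localCohomology a j).map h1).trans ((localCohomology a j).map_id _))) z)
    obtain ⟨e⟩ := LC.nonempty_cokerLocH b a i X
    have hq : Subsingleton ((localCohomology a i).obj ((LC.locF b).obj X) ⧸ LinearMap.range (LC.locH b a i X)) :=
      Submodule.Quotient.subsingleton_iff.2 (LinearMap.range_eq_top.2 (hsurj i))
    have hk := @Equiv.subsingleton _ _ e.symm.toEquiv hq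
    refine subsingleton_of_forall_eq 0 fun z => ?_
    exact congrArg Subtype.val (hk.elim ⟨z, LinearMap.mem_ker.2 (@Subsingleton.elim _ (ih E i) _ _)⟩ 0)

end Groth.Agent.GrLib8.ProZ
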