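import Groth.Agent.GrLib8.ProZ.Pair

/-!
# Injectivity at a prime from the cocycles of the global complex
-/

set_option autoImplicit false
set_option linter.style.haveILetI false
set_option backward.isDefEq.respectTransparency false

universe u

open CategoryTheory Limits IsLocalRing

attribute [local instance] HasDerivedCategory.standard

namespace Groth.Agent.GrLib8.ProZ

open PointT (lF Fp mp Rp)

variable {A : Type u} [CommRing A] [IsNoetherianRing A]

theorem map_comp' (S : Submonoid A) {X Y W : Type u} [AddCommGroup X] [Module A X] [AddCommGroup Y] [Module A Y]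
    [AddCommGroup W] [Module A W] (f : Y →ₗ[A] W) (g : X →ₗ[A] Y) :
    LocalizedModule.map S f ∘ₗ LocalizedModule.map S g = LocalizedModule.map S (f ∘ₗ g) :=
  hom_ext_mk S fun x => by
    rw [LinearMap.comp_apply, LocalizedModule.map_mk, LocalizedModule.map_mk, LocalizedModule.map_mk]
    rfl

variable (J : CochainComplex (ModuleCat.{u} A) ℤ) [J.IsKInjective] (a : ℤ) [J.IsStrictlyGE a]

include a in
theorem inject_at_prime (p : PrimeSpectrum A) (hinj : ∀ j, Module.Injective A (J.X j)) {ω : Dual.D A}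
    (e : DerivedCategory.Q.obj J ≅ ω) (hω : Dual.IsDualizing A ω) {n : PrimeSpectrum A → ℤ}
    (hn : KFlatLib.IsExtDegree ω n) {N' N M' : ModuleCat.{u} A} [Module.Finite A N] (g : N' ⟶ N) (g₀ : N ⟶ M')
    (i : ℕ) (j : ℤ) (hj : j = n p - i)
    (h : ∀ φ ∈ Z N J j, ∃ t ∈ p.asIdeal.primeCompl, ∃ χ ∈ Z M' J j,
      t • (φ ∘ₗ g.hom) - χ ∘ₗ (g ≫ g₀).hom ∈ B N' J j)
    (z : (localCohomology (mp p) i).obj ((Fp p).obj N'))
    (hz : ((localCohomology (mp p) i).map ((Fp p).map g₀)).hom
      (((localCohomology (mp p) i).map ((Fp p).map g)).hom z) = 0) :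
    ((localCohomology (mp p) i).map ((Fp p).map g)).hom z = 0 := by
  let S := p.asIdeal.primeCompl
  let R := Rp p
  haveI : IsNoetherianRing R := IsLocalization.isNoetherianRing S _ inferInstance
  haveI := isKInjective_locCx S J hinj a
  haveI : Module.Finite R (LocalizedModule S N) :=
    Module.Finite.of_isLocalizedModule S (LocalizedModule.mkLinearMap S N)
  haveI : Module.Finite R ((Fp p).obj N) := inferInstanceAs (Module.Finite R (LocalizedModule S N))
  obtain ⟨hd, hnor⟩ := exists_normalized_locCx J p hinj a e hω hn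
  refine inject_of_factor hd hnor ((Fp p).map g) ((Fp p).map g₀) i (fun φ => ?_) z hz
  let K := DerivedCategory.Q.obj (locCx S J)
  let c : (K⟦n p⟧)⟦-(i : ℤ)⟧ ≅ K⟦j⟧ := ((shiftFunctorAdd' (Dual.D R) (n p) (-(i : ℤ)) j (by omega)).app K).symm
  obtain ⟨u, hu⟩ := psiL_surjective (LocalizedModule S N) (locCx S J) j (φ ≫ c.hom)
  obtain ⟨f, hf, s, hs, hsu⟩ := exists_lift_cocycle S J N j u.1 u.2
  obtain ⟨t, ht, χ, hχ, hB⟩ := h f hf
  have hB' := map_mem_B S J j S.one_mem (show (1 : A) • (t • (f ∘ₗ g.hom) - χ ∘ₗ (g ≫ g₀).hom) ∈ B N' J j by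
    rwa [one_smul])
  obtain ⟨v, hv⟩ := (IsLocalization.map_units R (⟨t * s, mul_mem ht hs⟩ : S) : IsUnit (algebraMap A R (t * s)))
  let χu : LocalizedModule S M' →ₗ[R] (locCx S J).X j := (↑v⁻¹ : R) • LocalizedModule.map S χ
  have hχu : χu ∈ Z (LocalizedModule S M') (locCx S J) j := by
    refine Submodule.smul_mem _ _ (LinearMap.mem_ker.2 (hom_ext_mk S fun x => ?_))
    show ((lF S).map (J.d j (j + 1))).hom (LocalizedModule.map S χ (LocalizedModule.mk x 1)) = 0
    rw [LocalizedModule.map_mk, PointT.lF_map_mk,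
      show (J.d j (j + 1)).hom (χ x) = 0 from LinearMap.congr_fun hχ x]
    exact LocalizedModule.zero_mk (1 : S)
  refine ⟨psiL (LocalizedModule S M') (locCx S J) j ⟨χu, hχu⟩ ≫ c.inv, (cancel_mono c.hom).1 ?_⟩
  rw [Category.assoc, Category.assoc, Category.assoc, c.inv_hom_id, Category.comp_id, ← hu, ← Functor.map_comp]
  let gS : LocalizedModule S N' →ₗ[R] LocalizedModule S N := LocalizedModule.map S g.hom
  let gS₀ : LocalizedModule S N' →ₗ[R] LocalizedModule S M' := LocalizedModule.map S (g ≫ g₀).hom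
  have h1 : u.1 ∘ₗ gS ∈ Z (LocalizedModule S N') (locCx S J) j := LinearMap.mem_ker.2 (LinearMap.ext fun x =>
    LinearMap.congr_fun u.2 (gS x))
  have h2 : χu ∘ₗ gS₀ ∈ Z (LocalizedModule S N') (locCx S J) j := LinearMap.mem_ker.2 (LinearMap.ext fun x =>
    LinearMap.congr_fun hχu (gS₀ x))
  refine ((psiL_natural (LocalizedModule S N) (locCx S J) gS j u h1).symm).trans (Eq.trans ?_
    (psiL_natural (LocalizedModule S M') (locCx S J) gS₀ j ⟨χu, hχu⟩ h2) |>.trans ?_)
  · rw [← sub_eq_zero, ← map_sub, psiL_eq_zero_iff]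
    show u.1 ∘ₗ gS - χu ∘ₗ gS₀ ∈ B (LocalizedModule S N') (locCx S J) j
    rw [← Submodule.smul_mem_iff_of_isUnit (p := B (LocalizedModule S N') (locCx S J) j) (r := (v : R)) v.isUnit]
    refine (congrArg (· ∈ B (LocalizedModule S N') (locCx S J) j) ?_).mp hB'
    rw [map_sub, map_smul, ← map_comp', ← map_comp', hsu]
    refine LinearMap.ext fun x => ?_
    let u₁ : LocalizedModule S N →ₗ[R] LocalizedModule S (J.X j) := u.1
    show t • (algebraMap A R s • u₁ (gS x)) - LocalizedModule.map S χ (gS₀ x) =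
      (v : R) • (u₁ (gS x) - (↑v⁻¹ : R) • LocalizedModule.map S χ (gS₀ x))
    rw [smul_sub, ← mul_smul (v : R), Units.mul_inv, one_smul, hv, map_mul, mul_smul, algebraMap_smul, algebraMap_smul]
  · rfl

end Groth.Agent.GrLib8.ProZ
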