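import Groth.Agent.GrLib8.ProZ.Acyclic
import Mathlib.Algebra.Homology.Embedding.CochainComplex

/-!
# Torsion cocycles in the complex of homomorphisms into a complex of injective modules
-/

set_option autoImplicit false
set_option linter.style.haveILetI false

universe u

open CategoryTheory

namespace Groth.Agent.GrLib8.ProZ

variable {A : Type u} [CommRing A]

/-- Killed by the submonoid. -/
def Kills (S : Submonoid A) {X : Type u} [AddCommGroup X] [Module A X] (z : X) : Prop := ∃ t ∈ S, t • z = 0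

theorem kills_of_equiv (I : Ideal A) (S : Submonoid A) {X Y : Type u} [AddCommGroup X] [Module A X] [AddCommGroup Y]
    [Module A Y] (e : X ≃ₗ[A] Y) (l : ℕ) (h : ∀ z : (localCohomology I l).obj (ModuleCat.of A X), Kills S z)
    (z : (localCohomology I l).obj (ModuleCat.of A Y)) : Kills S z := by
  let ε := ((localCohomology I l).mapIso e.toModuleIso).toLinearEquiv
  obtain ⟨t, ht, h0⟩ := h (ε.symm z)
  exact ⟨t, ht, ε.symm.injective (by rw [map_smul, map_zero]; exact h0)⟩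

/-- A torsion element lifts up to the submonoid. -/
theorem exists_lift_torsion (I : Ideal A) (S : Submonoid A) {T : ShortComplex (ModuleCat.{u} A)} (hT : T.ShortExact)
    (h : ∀ z : (localCohomology I 1).obj T.X₁, Kills S z) (c : T.X₃) (k : ℕ) (hc : ∀ x ∈ I ^ k, x • c = 0) :
    ∃ t ∈ S, ∃ (m : ℕ) (h : T.X₂), (∀ x ∈ I ^ m, x • h = 0) ∧ T.g.hom h = t • c := by
  let φ : LC.qObj I k ⟶ T.X₃ := ModuleCat.ofHom (Submodule.liftQ (I ^ k) (LinearMap.toSpanSingleton A T.X₃ c)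
    fun x hx => hc x hx)
  have hφ : φ.hom (Ideal.Quotient.mk (I ^ k) 1) = c := by
    show (1 : A) • c = c
    exact one_smul A c
  let w := LC.toH I 0 T.X₃ k (Abelian.Ext.mk₀ φ)
  obtain ⟨t, ht, h0⟩ := h (LC.δH I 0 hT 1 rfl w)
  obtain ⟨u, hu⟩ := ((LC.exact₃ I 0 hT 1 rfl) (t • w)).1 (by rw [map_smul, h0])
  obtain ⟨n, x, rfl⟩ := LC.exists_toH I 0 u
  obtain ⟨ψ, rfl⟩ := (Abelian.Ext.mk₀_bijective _ _).2 x
  rw [LC.toH_natural, Abelian.Ext.mk₀_comp_mk₀, ← map_smul, ← Abelian.Ext.mk₀_smul,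
    ← LC.toH_res I 0 (le_max_left n k), ← LC.toH_res I 0 (le_max_right n k) (Abelian.Ext.mk₀ (t • φ)),
    ← sub_eq_zero, ← map_sub, LC.toH_eq_zero_iff] at hu
  obtain ⟨m, hm, hu⟩ := hu
  rw [map_sub, sub_eq_zero, LC.res_res, LC.res_res, LC.res_apply, LC.res_apply, Abelian.Ext.mk₀_comp_mk₀,
    Abelian.Ext.mk₀_comp_mk₀] at hu
  have he := (Abelian.Ext.mk₀_bijective _ _).1 hu
  refine ⟨t, ht, n, ψ.hom (Ideal.Quotient.mk (I ^ n) 1), fun x hx => ?_, ?_⟩
  · rw [← map_smul]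
    refine Eq.trans (congrArg ψ.hom ?_) (map_zero ψ.hom)
    show Ideal.Quotient.mk (I ^ n) (x * 1) = 0
    rw [mul_one]
    exact Ideal.Quotient.eq_zero_iff_mem.2 hx
  · have := congrArg (fun f => f.hom (Ideal.Quotient.mk (I ^ m) 1)) he
    exact this.trans (congrArg (t • ·) hφ)

section

variable (M : Type u) [AddCommGroup M] [Module A M] (J : CochainComplex (ModuleCat.{u} A) ℤ)

/-- The differential on homomorphisms. -/
noncomputable abbrev dN (p p' : ℤ) : (M →ₗ[A] J.X p) →ₗ[A] (M →ₗ[A] J.X p') :=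
  LinearMap.llcomp A M (J.X p) (J.X p') (J.d p p').hom

/-- The cocycles. -/
noncomputable abbrev Z (p : ℤ) : Submodule A (M →ₗ[A] J.X p) := LinearMap.ker (dN M J p (p + 1))

/-- The coboundaries. -/
noncomputable abbrev B (p : ℤ) : Submodule A (M →ₗ[A] J.X p) := LinearMap.range (dN M J (p - 1) p)

/-- The cohomology. -/
abbrev E (p : ℤ) : Type u := ↥(Z M J p) ⧸ (B M J p).comap (Z M J p).subtype

theorem dN_dN (p p' p'' : ℤ) (f : M →ₗ[A] J.X p) : dN M J p' p'' (dN M J p p' f) = 0 := by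
  refine LinearMap.ext fun x => ?_
  show ((J.d p p' ≫ J.d p' p'').hom) (f x) = 0
  rw [J.d_comp_d]
  rfl

theorem B_le_Z (p : ℤ) : B M J p ≤ Z M J p := by
  rintro _ ⟨f, rfl⟩
  exact dN_dN M J _ _ _ f

theorem ker_eq_Z (p : ℤ) : LinearMap.ker (dN M J (p - 1) p) = Z M J (p - 1) :=
  congrArg (fun j => LinearMap.ker (dN M J (p - 1) j)) (sub_add_cancel p 1).symm

/-- Boundaries as a quotient. -/
noncomputable def ses₁ (p : ℤ) : ShortComplex (ModuleCat.{u} A) :=
  ShortComplex.mk (X₁ := ModuleCat.of A ↥(LinearMap.ker (dN M J (p - 1) p)))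
    (X₂ := ModuleCat.of A (M →ₗ[A] J.X (p - 1))) (X₃ := ModuleCat.of A ↥(B M J p))
    (ModuleCat.ofHom (Submodule.subtype _)) (ModuleCat.ofHom (dN M J (p - 1) p).rangeRestrict)
    (ModuleCat.hom_ext (LinearMap.ext fun z => Subtype.ext z.2))

theorem ses₁_shortExact (p : ℤ) : (ses₁ M J p).ShortExact where
  exact := (ShortComplex.ShortExact.moduleCat_exact_iff_function_exact _).2 fun z =>
    ⟨fun hz => ⟨⟨z, congrArg Subtype.val hz⟩, rfl⟩, fun ⟨w, hw⟩ => hw ▸ Subtype.ext w.2⟩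
  mono_f := (ModuleCat.mono_iff_injective _).2 Subtype.val_injective
  epi_g := (ModuleCat.epi_iff_surjective _).2 (dN M J (p - 1) p).surjective_rangeRestrict

/-- Cocycles modulo boundaries. -/
noncomputable def ses₂ (p : ℤ) : ShortComplex (ModuleCat.{u} A) :=
  ShortComplex.mk (X₁ := ModuleCat.of A ↥((B M J p).comap (Z M J p).subtype))
    (X₂ := ModuleCat.of A ↥(Z M J p)) (X₃ := ModuleCat.of A (E M J p))
    (ModuleCat.ofHom (Submodule.subtype _)) (ModuleCat.ofHom (Submodule.mkQ _))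
    (ModuleCat.hom_ext (LinearMap.ext fun z => (Submodule.Quotient.mk_eq_zero _).2 z.2))

theorem ses₂_shortExact (p : ℤ) : (ses₂ M J p).ShortExact where
  exact := (ShortComplex.ShortExact.moduleCat_exact_iff_function_exact _).2 fun z =>
    ⟨fun hz => ⟨⟨z, (Submodule.Quotient.mk_eq_zero _).1 hz⟩, rfl⟩, fun ⟨w, hw⟩ => hw ▸ (Submodule.Quotient.mk_eq_zero _).2 w.2⟩
  mono_f := (ModuleCat.mono_iff_injective _).2 Subtype.val_injective
  epi_g := (ModuleCat.epi_iff_surjective _).2 (Submodule.mkQ_surjective _)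

variable {M J} [IsNoetherianRing A] [Module.Finite A M] (I : Ideal A) (S : Submonoid A)
  (hinj : ∀ p, Module.Injective A (J.X p)) (a : ℤ) (hz : ∀ p < a, Subsingleton (J.X p)) (j₀ : ℤ)
  (hE : ∀ (p : ℤ) (l : ℕ), 1 ≤ l → j₀ ≤ l + p → ∀ z : (localCohomology I l).obj (ModuleCat.of A (E M J p)), Kills S z)

include hinj in
theorem kills_B (p : ℤ) (l : ℕ) (hl : 1 ≤ l)
    (h : ∀ z : (localCohomology I (l + 1)).obj (ModuleCat.of A ↥(Z M J (p - 1))), Kills S z)
    (z : (localCohomology I l).obj (ModuleCat.of A ↥(B M J p))) : Kills S z := by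
  obtain ⟨l, rfl⟩ : ∃ l', l = l' + 1 := ⟨l - 1, by omega⟩
  haveI := hinj (p - 1)
  have hs := ses₁_shortExact M J p
  obtain ⟨t, ht, h0⟩ := kills_of_equiv I S (LinearEquiv.ofEq _ _ (ker_eq_Z M J p).symm) (l + 1 + 1) h
    (LC.δH I (l + 1) hs (l + 1 + 1) rfl z)
  refine ⟨t, ht, ?_⟩
  obtain ⟨w, hw⟩ := ((LC.exact₃ I (l + 1) hs (l + 1 + 1) rfl) (t • (show (localCohomology I (l + 1)).obj (ses₁ M J p).X₃ from z))).1
    (by rw [map_smul]; exact h0)
  haveI : Subsingleton ((localCohomology I (l + 1)).obj (ses₁ M J p).X₂) := subsingleton_H_hom M I (J.X (p - 1)) l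
  rw [Subsingleton.elim w 0, map_zero] at hw
  exact hw.symm

include hinj hz hE in
theorem kills_Z (p : ℤ) : ∀ l : ℕ, 1 ≤ l → j₀ ≤ l + p →
    ∀ z : (localCohomology I l).obj (ModuleCat.of A ↥(Z M J p)), Kills S z := by
  obtain ⟨n, hn⟩ : ∃ n : ℕ, p < a + n := ⟨(p - a + 1).toNat, by omega⟩
  induction n generalizing p with
  | zero =>
    intro l _ _ z
    haveI : Subsingleton (J.X p) := hz p (by simpa using hn)
    haveI : Subsingleton ↥(Z M J p) := ⟨fun x y => Subtype.ext (LinearMap.ext fun m => Subsingleton.elim _ _)⟩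
    exact ⟨1, one_mem _, @Subsingleton.elim _ (LC.subsingleton_H_of_subsingleton I _ l) _ _⟩
  | succ n ih =>
    intro l hl hlp z
    have hs := ses₂_shortExact M J p
    let z' : (localCohomology I l).obj (ses₂ M J p).X₂ := z
    obtain ⟨t, ht, h0⟩ := hE p l hl hlp (((localCohomology I l).map (ses₂ M J p).g).hom z')
    obtain ⟨w, hw⟩ := ((LC.exact₂ I l hs) (t • z')).1 (by rw [map_smul]; exact h0)
    have hB : ∀ v : (localCohomology I l).obj (ModuleCat.of A ↥(B M J p)), Kills S v :=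
      kills_B I S hinj p l hl (fun v => ih (p - 1) (by omega) (l + 1) (by omega) (by push_cast; omega) v)
    obtain ⟨t', ht', h1⟩ := kills_of_equiv I S (Submodule.comapSubtypeEquivOfLe (B_le_Z M J p)).symm l hB w
    refine ⟨t' * t, mul_mem ht' ht, ?_⟩
    show (t' * t) • z' = 0
    rw [mul_smul, ← hw, ← map_smul]
    exact (congrArg ((localCohomology I l).map (ses₂ M J p).f).hom h1).trans (map_zero _)

include hinj hz hE in
/-- Torsion boundaries come from torsion cochains. -/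
theorem exists_primitive (j : ℤ) (hj : j₀ ≤ j) (c : M →ₗ[A] J.X j) (hc : c ∈ B M J j) (k : ℕ)
    (hk : ∀ x ∈ I ^ k, x • c = 0) :
    ∃ t ∈ S, ∃ (m : ℕ) (h : M →ₗ[A] J.X (j - 1)), (∀ x ∈ I ^ m, x • h = 0) ∧ dN M J (j - 1) j h = t • c := by
  obtain ⟨t, ht, m, h, hm, hd⟩ := exists_lift_torsion I S (ses₁_shortExact M J j)
    (fun z => kills_of_equiv I S (LinearEquiv.ofEq _ _ (ker_eq_Z M J j).symm) 1
      (kills_Z I S hinj a hz j₀ hE (j - 1) 1 le_rfl (by omega)) z) ⟨c, hc⟩ k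
    (fun x hx => Subtype.ext (hk x hx))
  exact ⟨t, ht, m, h, hm, congrArg Subtype.val hd⟩

include hinj hz hE in
/-- Cocycles are torsion up to boundaries. -/
theorem exists_torsion_cocycle (j : ℤ) (hj : j₀ ≤ j + 1) (ht : ∀ e : E M J j, ∃ t ∈ S, ∃ k, ∀ x ∈ I ^ k, x • t • e = 0)
    (χ : M →ₗ[A] J.X j) (hχ : χ ∈ Z M J j) :
    ∃ t ∈ S, ∃ (m : ℕ) (γ : M →ₗ[A] J.X j), (∀ x ∈ I ^ m, x • γ = 0) ∧ t • χ - γ ∈ B M J j := by
  obtain ⟨t, hts, k, hk⟩ := ht (Submodule.Quotient.mk ⟨χ, hχ⟩)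
  obtain ⟨t', ht', m, γ, hm, hd⟩ := exists_lift_torsion I S (ses₂_shortExact M J j)
    (fun z => kills_of_equiv I S (Submodule.comapSubtypeEquivOfLe (B_le_Z M J j)).symm 1
      (kills_B I S hinj j 1 le_rfl (kills_Z I S hinj a hz j₀ hE (j - 1) 2 (by omega) (by omega))) z)
    (t • Submodule.Quotient.mk ⟨χ, hχ⟩) k hk
  refine ⟨t' * t, mul_mem ht' hts, m, γ.1, fun x hx => congrArg Subtype.val (hm x hx), ?_⟩
  have hd' : (Submodule.Quotient.mk γ : E M J j) = (t' * t) • Submodule.Quotient.mk ⟨χ, hχ⟩ := by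
    rw [mul_smul]; exact hd
  rw [← Submodule.Quotient.mk_smul, eq_comm, Submodule.Quotient.eq] at hd'
  exact hd'

omit [IsNoetherianRing A] [Module.Finite A M] in
theorem apply_eq_zero_of_mem {p : ℤ} (h : M →ₗ[A] J.X p) (m : ℕ) (hm : ∀ x ∈ I ^ m, x • h = 0) {z : M}
    (hz : z ∈ I ^ m • (⊤ : Submodule A M)) : h z = 0 := by
  refine Submodule.smul_induction_on hz (fun x hx y _ => ?_) (fun x y hx hy => by rw [map_add, hx, hy, add_zero])
  rw [map_smul, ← LinearMap.smul_apply, hm x hx, LinearMap.zero_apply]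

/-- The filtration. -/
abbrev N (I : Ideal A) (M : Type u) [AddCommGroup M] [Module A M] (k : ℕ) : Submodule A M :=
  I ^ k • (⊤ : Submodule A M)

omit [IsNoetherianRing A] [Module.Finite A M] in
theorem N_le {k l : ℕ} (h : k ≤ l) : N I M l ≤ N I M k := Submodule.smul_mono_left (Ideal.pow_le_pow_right h)

/-- Restriction to the filtration. -/
noncomputable abbrev rs {k l : ℕ} (h : k ≤ l) (p : ℤ) : (↥(N I M k) →ₗ[A] J.X p) →ₗ[A] (↥(N I M l) →ₗ[A] J.X p) :=
  LinearMap.lcomp A (J.X p) (Submodule.inclusion (N_le I h))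

/-- Restriction from the module. -/
noncomputable abbrev r0 (k : ℕ) (p : ℤ) : (M →ₗ[A] J.X p) →ₗ[A] (↥(N I M k) →ₗ[A] J.X p) :=
  LinearMap.lcomp A (J.X p) (N I M k).subtype

include hinj hz hE in
/-- Cocycles on the powers come from the module. -/
theorem exists_global (j : ℤ) (hj : j₀ ≤ j + 1) (m : ℕ) (φ : ↥(N I M m) →ₗ[A] J.X j)
    (hφ : φ ∈ Z ↥(N I M m) J j) :
    ∃ t ∈ S, ∃ (k : ℕ) (h : m ≤ k), ∃ χ ∈ Z M J j, rs I h j (t • φ) = r0 I k j χ := by
  obtain ⟨g, hg⟩ := Module.Injective.extension_property A (J.X j) _ _ (N I M m).subtype Subtype.val_injective φ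
  let c := dN M J j (j + 1) g
  have hc : c ∈ B M J (j + 1) := by
    show c ∈ LinearMap.range (dN M J (j + 1 - 1) (j + 1))
    rw [show j + 1 - 1 = j by omega]
    exact ⟨g, rfl⟩
  have hk : ∀ x ∈ I ^ m, x • c = 0 := fun x hx => LinearMap.ext fun y => by
    show x • (J.d j (j + 1)).hom (g y) = 0
    rw [← map_smul, ← map_smul, show g (x • y) = φ ⟨x • y, Submodule.smul_mem_smul hx Submodule.mem_top⟩ from
      LinearMap.congr_fun hg ⟨x • y, Submodule.smul_mem_smul hx Submodule.mem_top⟩]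
    exact LinearMap.congr_fun hφ _
  obtain ⟨t, ht, m', h, hm', hd⟩ := exists_primitive I S hinj a hz j₀ hE (j + 1) hj c hc m hk
  obtain ⟨h', hh'1, hh'2⟩ : ∃ h' : M →ₗ[A] J.X j, (∀ x ∈ I ^ m', x • h' = 0) ∧ dN M J j (j + 1) h' = t • c := by
    clear hg
    revert h
    rw [show j + 1 - 1 = j by omega]
    intro h hm' hd
    exact ⟨h, hm', hd⟩
  refine ⟨t, ht, max m m', le_max_left _ _, t • g - h', ?_, LinearMap.ext fun z => ?_⟩
  · show dN M J j (j + 1) (t • g - h') = 0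
    rw [map_sub, map_smul, hh'2, sub_self]
  · show t • φ ⟨z.1, _⟩ = t • g z.1 - h' z.1
    rw [apply_eq_zero_of_mem I h' m' hh'1 (N_le I (le_max_right m m') z.2), sub_zero]
    exact congrArg (t • ·) (LinearMap.congr_fun hg _).symm

include hinj hz hE in
/-- Cocycles on the module die on high powers. -/
theorem exists_restrict_boundary (j : ℤ) (hj : j₀ ≤ j + 1) (ht : ∀ e : E M J j, ∃ t ∈ S, ∃ k, ∀ x ∈ I ^ k, x • t • e = 0)
    (χ : M →ₗ[A] J.X j) (hχ : χ ∈ Z M J j) :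
    ∃ t ∈ S, ∃ k₀ : ℕ, ∀ k, k₀ ≤ k → r0 I k j (t • χ) ∈ B ↥(N I M k) J j := by
  obtain ⟨t, hts, m, γ, hm, ⟨e, he⟩⟩ := exists_torsion_cocycle I S hinj a hz j₀ hE j hj ht χ hχ
  refine ⟨t, hts, m, fun k hk => ⟨r0 I k (j - 1) e, LinearMap.ext fun z => ?_⟩⟩
  have := LinearMap.congr_fun he z.1
  show (J.d (j - 1) j).hom (e z.1) = t • χ z.1
  rw [show (J.d (j - 1) j).hom (e z.1) = t • χ z.1 - γ z.1 from this,
    apply_eq_zero_of_mem I γ m hm (N_le I hk z.2), sub_zero]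

end

end Groth.Agent.GrLib8.ProZ
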