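import Groth.Agent.BrnchLib.Colon
import Groth.Agent.GrLib8.Bootstrap.Local
import Mathlib.RingTheory.Filtration
import Mathlib.RingTheory.AdicCompletion.Basic
import Mathlib.RingTheory.Flat.FaithfullyFlat.Algebra
import Mathlib.RingTheory.Ideal.AssociatedPrime.Finiteness
import Mathlib.RingTheory.LocalRing.MaximalIdeal.Basic
import Mathlib.RingTheory.Localization.AtPrime.Basic

/-!
# Branches meeting a complete locus only in the closed point
-/

set_option autoImplicit false
set_option linter.style.haveILetI false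

universe u

open IsLocalRing

namespace Groth.Agent.GrLib8.ProZ

theorem mem_of_forall_mem_sup_pow {B : Type u} [CommRing B] [IsLocalRing B] [IsNoetherianRing B]
    (P J : Ideal B) (hJ : J ≤ maximalIdeal B) (y : B) (h : ∀ k : ℕ, y ∈ P ⊔ J ^ k) : y ∈ P := by
  have h1 : (Submodule.Quotient.mk y : B ⧸ P) ∈ ⨅ k : ℕ, J ^ k • (⊤ : Submodule B (B ⧸ P)) := by
    refine (Submodule.mem_iInf _).2 fun k => ?_
    obtain ⟨p, hp, j, hj, rfl⟩ := Submodule.mem_sup.1 (h k)
    have h2 : (Submodule.Quotient.mk (p + j) : B ⧸ P) = j • Submodule.Quotient.mk (1 : B) := by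
      rw [← Submodule.Quotient.mk_smul, smul_eq_mul, mul_one, Submodule.Quotient.eq]
      simpa using hp
    rw [h2]
    exact Submodule.smul_mem_smul hj Submodule.mem_top
  rw [Ideal.iInf_pow_smul_eq_bot_of_isLocalRing J (ne_top_of_le_ne_top (maximalIdeal.isMaximal B).ne_top hJ)] at h1
  exact (Submodule.Quotient.mk_eq_zero _).1 ((Submodule.mem_bot B).1 h1)

theorem sup_pow_le {B : Type u} [CommRing B] (q J : Ideal B) : ∀ k : ℕ, (q ⊔ J) ^ k ≤ q ⊔ J ^ k
  | 0 => by simp
  | k + 1 => by
    rw [pow_succ, pow_succ]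
    refine (Ideal.mul_mono (sup_pow_le q J k) le_rfl).trans ?_
    rw [Ideal.mul_sup, Ideal.sup_mul, Ideal.sup_mul]
    exact sup_le (sup_le (Ideal.mul_le_right.trans le_sup_left) (Ideal.mul_le_right.trans le_sup_left))
      (sup_le (Ideal.mul_le_left.trans le_sup_left) le_sup_right)

variable {A : Type u} [CommRing A] [IsLocalRing A] [IsNoetherianRing A]
variable {C : Type u} [CommRing C] [IsLocalRing C] [IsNoetherianRing C] [Algebra A C] [Module.FaithfullyFlat A C]

/-- A branch of the completion meeting the closed set of a complete ideal only at the closed point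
forces the same for its image. -/
theorem eq_maximalIdeal_of_isolated (I : Ideal A) [IsAdicComplete I A] (hI : I ≤ maximalIdeal A)
    (hm : (maximalIdeal A).map (algebraMap A C) = maximalIdeal C)
    (hd : ∀ (y : C) (n : ℕ), ∃ a : A, y - algebraMap A C a ∈ (maximalIdeal A ^ n).map (algebraMap A C))
    (P : Ideal A) [P.IsPrime] (q : Ideal C) [q.IsPrime] (hq : q ∈ (P.map (algebraMap A C)).minimalPrimes)
    (hN : ∃ N : ℕ, maximalIdeal C ^ N ≤ q ⊔ I.map (algebraMap A C)) (r : Ideal A) [r.IsPrime] (hr : P ⊔ I ≤ r) :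
    r = maximalIdeal A := by
  classical
  by_contra hne
  obtain ⟨N, hN⟩ := hN
  let f := algebraMap A C
  have hq' : q ∈ (Module.annihilator C (C ⧸ P.map f)).minimalPrimes := by rwa [Ideal.annihilator_quotient]
  obtain ⟨-, φ, hφ⟩ := (isAssociatedPrime_iff_exists_injective_linearMap _ _).1
    (Module.associatedPrimes.minimalPrimes_annihilator_subset_associatedPrimes C _ hq')
  obtain ⟨x, hx⟩ := Submodule.Quotient.mk_surjective _ (φ (Submodule.Quotient.mk 1))
  have hxP : x ∉ P.map f := fun h => by
    have h1 : φ (Submodule.Quotient.mk 1) = 0 := by rw [← hx]; exact (Submodule.Quotient.mk_eq_zero _).2 h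
    have h2 := hφ (h1.trans (map_zero φ).symm)
    rw [Submodule.Quotient.mk_eq_zero] at h2
    exact Ideal.IsPrime.ne_top ‹q.IsPrime› ((Ideal.eq_top_iff_one _).2 h2)
  have hxq : ∀ c ∈ q, c * x ∈ P.map f := fun c hc => by
    rw [← Submodule.Quotient.mk_eq_zero, ← smul_eq_mul, Submodule.Quotient.mk_smul, hx, ← map_smul,
      ← Submodule.Quotient.mk_smul, (Submodule.Quotient.mk_eq_zero _).2 (show c • (1 : C) ∈ q by simpa using hc),
      map_zero]
  let L : ℕ → Ideal A := fun k => P ⊔ I ^ k
  have key : ∀ k, ∃ a : A, (∀ c ∈ maximalIdeal A ^ (N * k), a * c ∈ L k) ∧ x - f a ∈ (L k).map f := by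
    intro k
    obtain ⟨s, hs⟩ := (IsNoetherian.noetherian (maximalIdeal A ^ (N * k)) : (maximalIdeal A ^ (N * k)).FG)
    have h1 : ∀ c ∈ maximalIdeal A ^ (N * k), x * f c ∈ (L k).map f := by
      intro c hc
      have h2 : f c ∈ q ⊔ (I.map f) ^ k := by
        refine sup_pow_le q _ k (Ideal.pow_right_mono hN k ?_)
        rw [← pow_mul, ← hm, ← Ideal.map_pow]
        exact Ideal.mem_map_of_mem _ hc
      obtain ⟨u, hu, v, hv, huv⟩ := Submodule.mem_sup.1 h2
      rw [← huv, mul_add, Ideal.map_sup, Ideal.map_pow]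
      exact add_mem (Submodule.mem_sup_left (by rw [mul_comm]; exact hxq u hu))
        (Submodule.mem_sup_right (Ideal.mul_mem_left _ _ hv))
    have h3 := BrnchLib.mem_map_colon_of_flat (B := C) (L k) (ι := ↥s) (fun t => (t : A)) x
      fun t => h1 _ (hs ▸ Ideal.subset_span t.2)
    have hcol : ∀ a ∈ (L k).colon (Set.range fun t : ↥s => (t : A)), ∀ c ∈ maximalIdeal A ^ (N * k), a * c ∈ L k := by
      intro a ha c hc
      rw [Submodule.mem_colon] at ha
      rw [← hs] at hc
      induction hc using Submodule.span_induction with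
      | mem y hy => exact ha y ⟨⟨y, hy⟩, rfl⟩
      | zero => simp
      | add y z _ _ hy hz => rw [mul_add]; exact add_mem hy hz
      | smul b y _ hy => rw [smul_eq_mul, mul_left_comm]; exact Ideal.mul_mem_left _ _ hy
    clear hx hxP hxq h1
    induction h3 using Submodule.span_induction with
    | mem y hy =>
      obtain ⟨a, ha, rfl⟩ := hy
      exact ⟨a, hcol a ha, by simp [f]⟩
    | zero => exact ⟨0, by simp, by simp⟩
    | add y z _ _ hy hz =>
      obtain ⟨a, ha, ha'⟩ := hy
      obtain ⟨b, hb, hb'⟩ := hz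
      exact ⟨a + b, fun c hc => by rw [add_mul]; exact add_mem (ha c hc) (hb c hc), by
        rw [map_add, show y + z - (f a + f b) = (y - f a) + (z - f b) by ring]; exact add_mem ha' hb'⟩
    | smul b y _ hy =>
      obtain ⟨a, ha, ha'⟩ := hy
      obtain ⟨b₀, hb₀⟩ := hd b (N * k)
      refine ⟨b₀ * a, fun c hc => by rw [mul_assoc]; exact Ideal.mul_mem_left _ _ (ha c hc), ?_⟩
      have h4 : (b - f b₀) * f a ∈ (L k).map f := by
        rw [mul_comm]
        have h5 : ∀ z ∈ (maximalIdeal A ^ (N * k)).map f, f a * z ∈ (L k).map f := by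
          intro z hz
          induction hz using Submodule.span_induction with
          | mem w hw =>
            obtain ⟨c, hc, rfl⟩ := hw
            rw [← map_mul]
            exact Ideal.mem_map_of_mem _ (ha c hc)
          | zero => simp
          | add w z _ _ hw hz => rw [mul_add]; exact add_mem hw hz
          | smul e w _ hw => rw [smul_eq_mul, mul_left_comm]; exact Ideal.mul_mem_left _ _ hw
        exact h5 _ hb₀
      rw [smul_eq_mul, map_mul, show b * y - f b₀ * f a = b * (y - f a) + (b - f b₀) * f a by ring]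
      exact add_mem (Ideal.mul_mem_left _ _ ha') h4
  choose a ha hax using key
  have hL : ∀ {k l : ℕ}, k ≤ l → L l ≤ L k := fun h => sup_le_sup_left (Ideal.pow_le_pow_right h) _
  have hcomap : ∀ (J : Ideal A) (c : A), f c ∈ J.map f → c ∈ J := fun J c h => by
    have := Ideal.comap_map_eq_self_of_faithfullyFlat (A := A) (B := C) J
    exact this ▸ h
  have hdiff : ∀ k, ∃ p ∈ P, ∃ i ∈ I ^ k, a k - a (k + 1) = p + i := fun k => by
    have h : a k - a (k + 1) ∈ L k := hcomap _ _ (by
      rw [map_sub, show f (a k) - f (a (k + 1)) = (x - f (a (k + 1))) - (x - f (a k)) by ring]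
      exact sub_mem (Ideal.map_mono (hL (Nat.le_succ k)) (hax (k + 1))) (hax k))
    obtain ⟨p, hp, i, hi, h'⟩ := Submodule.mem_sup.1 h
    exact ⟨p, hp, i, hi, h'.symm⟩
  choose p hp i hi hpi using hdiff
  let b : ℕ → A := fun k => a k + ∑ l ∈ Finset.range k, p l
  have hb : ∀ {m n : ℕ}, m ≤ n → b m ≡ b n [SMOD (I ^ m • ⊤ : Submodule A A)] := by
    intro m n hmn
    induction n, hmn using Nat.le_induction with
    | base => rfl
    | succ n hmn ih =>
      refine ih.trans (SModEq.sub_mem.2 ?_)
      rw [show b n - b (n + 1) = i n by simp [b, Finset.sum_range_succ]; linear_combination hpi n]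
      rw [smul_eq_mul, Ideal.mul_top]
      exact Ideal.pow_le_pow_right hmn (hi n)
  obtain ⟨l, hl⟩ := IsPrecomplete.prec (IsAdicComplete.toIsPrecomplete (I := I) (M := A)) hb
  have hla : ∀ k, l - a k ∈ L k := fun k => by
    have h := SModEq.sub_mem.1 (hl k)
    rw [smul_eq_mul, Ideal.mul_top] at h
    rw [show l - a k = (∑ m ∈ Finset.range k, p m) + -(b k - l) by simp [b]; ring]
    exact add_mem (Submodule.mem_sup_left (Ideal.sum_mem _ fun m _ => hp m)) (neg_mem (Submodule.mem_sup_right h))
  have hxl : x - f l ∈ P.map f := by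
    refine mem_of_forall_mem_sup_pow (P.map f) (I.map f) ((Ideal.map_mono hI).trans hm.le) _ fun k => ?_
    rw [← Ideal.map_pow, ← Ideal.map_sup, show x - f l = (x - f (a k)) - f (l - a k) by rw [map_sub]; ring]
    exact sub_mem (hax k) (Ideal.mem_map_of_mem _ (hla k))
  obtain ⟨t, htm, htr⟩ := SetLike.exists_of_lt (lt_of_le_of_ne (le_maximalIdeal (Ideal.IsPrime.ne_top ‹r.IsPrime›)) hne)
  let R := Localization.AtPrime r
  haveI : IsNoetherianRing R := IsLocalization.isNoetherianRing r.primeCompl _ inferInstance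
  have hPr : P ≤ r := le_sup_left.trans hr
  have hlr : algebraMap A R l ∈ P.map (algebraMap A R) := by
    refine mem_of_forall_mem_sup_pow (P.map (algebraMap A R)) (I.map (algebraMap A R))
      ((Ideal.map_mono (le_sup_right.trans hr)).trans Localization.AtPrime.map_eq_maximalIdeal.le) _ fun k => ?_
    rw [← Ideal.map_pow, ← Ideal.map_sup]
    have h : t ^ (N * k) * l ∈ L k := by
      rw [show t ^ (N * k) * l = a k * t ^ (N * k) + t ^ (N * k) * (l - a k) by ring]
      exact add_mem (ha k _ (Ideal.pow_mem_pow htm _)) (Ideal.mul_mem_left _ _ (hla k))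
    have h' := Ideal.mem_map_of_mem (algebraMap A R) h
    rw [map_mul] at h'
    exact (Ideal.unit_mul_mem_iff_mem _ (IsLocalization.map_units R
      (⟨t ^ (N * k), pow_mem (show t ∈ r.primeCompl from htr) _⟩ : r.primeCompl))).1 h'
  have hlP : l ∈ P := by
    rw [← IsLocalization.comap_map_of_isPrime_disjoint r.primeCompl R ‹P.IsPrime›
      (Set.disjoint_left.2 fun y hy hyP => hy (hPr hyP))]
    exact hlr
  refine hxP ?_
  rw [show x = (x - f l) + f l by ring]
  exact add_mem hxl (Ideal.mem_map_of_mem _ hlP)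

end Groth.Agent.GrLib8.ProZ
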