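import Groth.Agent.GrLib8.ProZ.Support
import Groth.Agent.GrLib8.ProZ.AtPrime
import Groth.Agent.GrLib8.PointT.Rows

/-!
# Uniform vanishing and injectivity at the primes of the support
-/

set_option autoImplicit false
set_option linter.style.haveILetI false
set_option backward.isDefEq.respectTransparency false

universe u

open CategoryTheory Limits

attribute [local instance] HasDerivedCategory.standard

namespace Groth.Agent.GrLib8.ProZ

open PointT (lF Fp mp Rp Bd)

variable {A : Type u} [CommRing A]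

/-- The system of powers. -/
noncomputable abbrev sys (I : Ideal A) (M : Type u) [AddCommGroup M] [Module A M] (k : ℕ) : ModuleCat.{u} A :=
  ModuleCat.of A ↥(N I M k)

/-- The inclusions. -/
noncomputable abbrev sysMap (I : Ideal A) (M : Type u) [AddCommGroup M] [Module A M] (k m : ℕ) (h : m ≤ k) :
    sys I M k ⟶ sys I M m :=
  ModuleCat.ofHom (Submodule.inclusion (N_le I h))

variable [IsNoetherianRing A]

theorem exists_bd_of_dualizing {ω : Dual.D A} (hω : Dual.IsDualizing A ω) (T : Set (PrimeSpectrum A)) :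
    ∃ e : ℕ, Bd T e := by
  obtain ⟨n, -, -, hmono, a, b, hab⟩ := KFlatLib.exists_extDegree hω
  refine ⟨(b - a).toNat + 1, fun l => ?_⟩
  have h1 : ∀ k : ℕ, ∀ hk : k < l.length + 1, n (l ⟨0, by omega⟩).1 + k ≤ n (l ⟨k, hk⟩).1 := by
    intro k
    induction k with
    | zero => intro hk; simp
    | succ k ih =>
      intro hk
      have h2 := ih (by omega)
      have h3 : (l ⟨k, by omega⟩).1 < (l ⟨k + 1, hk⟩).1 := l.step ⟨k, by omega⟩
      have := hmono h3
      push_cast
      omega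
  have h2 := h1 l.length (by omega)
  have h3 := (hab (l ⟨0, by omega⟩).1).1
  have h4 := (hab (l ⟨l.length, by omega⟩).1).2
  omega

theorem exists_uniform_local {ω : Dual.D A} (hω : Dual.IsDualizing A ω) (I : Ideal A) (d : ℕ)
    (hcd : LocCoh.CdLE A I d) (M : Type u) [AddCommGroup M] [Module A M] [Module.Finite A M]
    (T : Set (PrimeSpectrum A)) (hTI : T ⊆ PrimeSpectrum.zeroLocus (I : Set A)) (s : ℕ)
    (h4 : H4 I M T s d) (h6 : ∀ q ∈ T, Bootstrap.H6 I M s q) :
    ∃ m' : ℕ → ℕ, (∀ m, m ≤ m' m) ∧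
      ∀ i ≤ s + 1, ∀ q ∈ T, ∀ (m k : ℕ) (h : m ≤ k), m' m ≤ k →
        (localCohomology (mp q) i).map ((Fp q).map (sysMap I M k m h)) = 0 := by
  obtain ⟨n, hn, hcov, hmono, -⟩ := KFlatLib.exists_extDegree hω
  obtain ⟨a, b, ⟨J, hz, hE, ⟨e⟩⟩, _, _⟩ := KFlatLib.exists_bounds_of_isDualizing hω
  have hinj : ∀ p, Module.Injective A (J.X p) := hE
  haveI : J.IsStrictlyGE a := (CochainComplex.isStrictlyGE_iff _ _).2 fun i hi => hz i (Or.inl hi)
  haveI : ∀ p, Injective (J.X p) := fun p =>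
    haveI := hE p
    Module.injective_object_of_injective_module (R := A) (M := J.X p)
  haveI : J.IsKInjective := CochainComplex.isKInjective_of_injective _ a
  have hout : ∀ p, p < a ∨ b < p → Subsingleton (J.X p) := fun p hp => ModuleCat.subsingleton_of_isZero (hz p hp)
  have hfin : ∀ k p, Module.Finite A (E ↥(N I M k) J p) := fun k p => finite_E _ J e a hω.finite_cohomology p
  choose K₁ hK₁ hU₁ using exists_uniform I hfin a b hout (fun k p => B ↥(N I M k) J p) (fun _ _ => le_rfl)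
    (fun h p f hf => rs_mem_B I h hf)
  refine ⟨K₁, hK₁, fun i hi q hq m k h hk => ModuleCat.hom_ext (LinearMap.ext fun z => ?_)⟩
  let θ : ∀ p, E M J p ≃ₗ[A] (Dual.inD A M ⟶ ω⟦p⟧) := fun p =>
    (equivE M J p).trans (Linear.homCongr A (Iso.refl _) ((shiftFunctor (Dual.D A) p).mapIso e))
  haveI : ∀ p, Module.Finite A (E M J p) := fun p => finite_E M J e a hω.finite_cohomology p
  let S := q.asIdeal.primeCompl
  have hkill : ∀ (p : ℤ) (l : ℕ), 1 ≤ l → n q - s ≤ l + p →
      ∀ z : (localCohomology I l).obj (ModuleCat.of A (E M J p)), Kills S z :=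
    fun p l hl hlp z => kills_H_ext hω hn hcov hmono h4 h6 hq (hTI hq) hcd p l hl hlp _ (θ p).support_eq.le z
  refine inject_at_prime J a q hinj e hω hn (sysMap I M k m h) (0 : sys I M m ⟶ ModuleCat.of A PUnit.{u + 1}) i
    (n q - i) rfl (fun φ hφ => ?_) z ?_
  · obtain ⟨t, ht, k₁, hk₁, χ, hχ, hχφ⟩ := exists_global I S hinj a (fun p hp => hout p (Or.inl hp)) (n q - s)
      hkill (n q - i) (by omega) m φ hφ
    obtain ⟨t', ht', k₀, hk₀⟩ := exists_restrict_boundary I S hinj a (fun p hp => hout p (Or.inl hp)) (n q - s)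
      hkill (n q - i) (by omega)
      (torsion_ext hω hn hcov hmono h4 h6 hq (hTI hq) hcd _ (by omega) _ (θ _).support_eq.le) χ hχ
    have hmem : rs I (hk₁.trans (le_max_left k₁ k₀)) (n q - i) ((t' * t) • φ) ∈
        B ↥(N I M (max k₁ k₀)) J (n q - i) := by
      have := hk₀ (max k₁ k₀) (le_max_right _ _)
      rwa [map_smul, ← rs_r0 I (le_max_left k₁ k₀), ← hχφ, ← map_smul, ← map_smul, rs_rs, ← mul_smul] at this
    refine ⟨t' * t, mul_mem ht' ht, 0, Submodule.zero_mem _, ?_⟩
    rw [LinearMap.zero_comp, sub_zero]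
    exact hU₁ m (n q - i) ((t' * t) • φ) (Submodule.smul_mem _ _ hφ) ⟨_, _, hmem⟩ k h hk
  · haveI : Subsingleton ((Fp q).obj (ModuleCat.of A PUnit.{u + 1})) :=
      inferInstanceAs (Subsingleton (LocalizedModule q.asIdeal.primeCompl PUnit.{u + 1}))
    exact @Subsingleton.elim _ (LC.subsingleton_H_of_subsingleton _ _ i) _ _

/-- The system is pro-zero up to one degree above the bound. -/
theorem proZero {ω : Dual.D A} (hω : Dual.IsDualizing A ω) (I : Ideal A) (d : ℕ)
    (hcd : LocCoh.CdLE A I d) (M : Type u) [AddCommGroup M] [Module A M] [Module.Finite A M]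
    (T : Set (PrimeSpectrum A)) (hTI : T ⊆ PrimeSpectrum.zeroLocus (I : Set A)) (hT : StableUnderSpecialization T)
    (s : ℕ) (h4 : H4 I M T s d) (h6 : ∀ q ∈ T, Bootstrap.H6 I M s q) (i : ℕ) (hi : i ≤ s + 1) (m : ℕ) :
    ∃ (K : ℕ) (hK : m ≤ K), ∀ x : Dual2.HT T i ↥(N I M K),
      ((localCohomology.ofDiagram (Dual2.idealsInDiagram T) i).map (sysMap I M K m hK)).hom x = 0 := by
  obtain ⟨e, he⟩ := exists_bd_of_dualizing hω T
  obtain ⟨m', hm', hv⟩ := exists_uniform_local hω I d hcd M T hTI s h4 h6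
  have hn : m ≤ (m'^[e]) m := Function.id_le_iterate_of_id_le (fun m => hm' m) e m
  refine ⟨(m'^[e]) m, hn, fun x => ?_⟩
  obtain ⟨K, y, rfl⟩ := HTLib.exists_tH i x
  refine (HTLib.tH_natural i (sysMap I M _ m hn) y).trans ?_
  exact PointT.vanish (sys I M) (sysMap I M) i m'
    (fun k l m h₁ h₂ => ModuleCat.hom_ext (LinearMap.ext fun _ => rfl)) hm' e T hT he
    (fun p hp m k h hk => hv i hi p hp m k h hk) m _ hn le_rfl K y

end Groth.Agent.GrLib8.ProZ
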