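import Groth.Agent.GrLib8.ProZ.Local

/-!
# Injectivity in local cohomology from the dual cocycles
-/

set_option autoImplicit false
set_option linter.style.haveILetI false
set_option backward.isDefEq.respectTransparency false

universe u

open CategoryTheory Limits IsLocalRing
open scoped TensorProduct

attribute [local instance] HasDerivedCategory.standard

namespace Groth.Agent.GrLib8.ProZ

open PointT (lF Fp mp Rp)

section Pairing

variable {R : Type u} [CommRing R] [IsLocalRing R] [IsNoetherianRing R] {ω : Dual.D R}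

theorem inject_of_factor (hω : Dual.IsDualizing R ω) (hn : Dual.IsNormalized R ω) {N' N M' : ModuleCat.{u} R}
    [Module.Finite R N] (g : N' ⟶ N) (g₀ : N ⟶ M') (i : ℕ)
    (h : ∀ φ : (DerivedCategory.singleFunctor (ModuleCat.{u} R) 0).obj N ⟶ ω⟦-(i : ℤ)⟧,
      ∃ χ : (DerivedCategory.singleFunctor (ModuleCat.{u} R) 0).obj M' ⟶ ω⟦-(i : ℤ)⟧,
        (DerivedCategory.singleFunctor (ModuleCat.{u} R) 0).map g ≫ φ =
          (DerivedCategory.singleFunctor (ModuleCat.{u} R) 0).map (g ≫ g₀) ≫ χ)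
    (z : (localCohomology (maximalIdeal R) i).obj N')
    (hz : ((localCohomology (maximalIdeal R) i).map g₀).hom (((localCohomology (maximalIdeal R) i).map g).hom z) = 0) :
    ((localCohomology (maximalIdeal R) i).map g).hom z = 0 := by
  obtain ⟨E, _, _, f, hf⟩ := LC.exists_injectiveHull R (ResidueField R)
  haveI := hf.isInjective
  obtain ⟨J, -, hJ⟩ := KFlatLib.exists_trace hω hn hf
  let S₀ := DerivedCategory.singleFunctor (ModuleCat.{u} R) 0
  let F := shiftFunctor (Dual.D R) (i : ℤ)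
  obtain ⟨n, x, rfl⟩ := LC.exists_toH (maximalIdeal R) i z
  rw [LC.toH_natural] at hz ⊢
  have hcomp : ∀ {X Y : ModuleCat.{u} R} (v : Abelian.Ext (LC.qObj (maximalIdeal R) n) X i) (w : X ⟶ Y),
      (v.comp (Abelian.Ext.mk₀ w) (add_zero i)).hom = v.hom ≫ F.map (S₀.map w) := fun v w => by
    rw [Abelian.Ext.comp_hom, Abelian.Ext.mk₀_hom]
    exact ShiftedHom.comp_mk₀ v.hom 0 rfl (S₀.map w)
  have hres : ∀ {X : ModuleCat.{u} R} {n m : ℕ} (hnm : n ≤ m) (v : Abelian.Ext (LC.qObj (maximalIdeal R) n) X i),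
      (LC.res (maximalIdeal R) hnm i X v).hom = KFlatLib.inDMap (KFlatLib.quotPow hnm) ≫ v.hom := fun hnm v =>
    (Abelian.Ext.singleFunctor_map_comp_hom (LC.qMap (maximalIdeal R) hnm) v).symm
  let w := KFlatLib.toTm ((Dual.inD R N')⟦(i : ℤ)⟧) n x.hom
  rw [LC.toH_natural, LC.toH_eq_zero_iff] at hz
  obtain ⟨l₀, hl₀, h0⟩ := hz
  let y := x.comp (Abelian.Ext.mk₀ g) (add_zero i)
  have hw0 : KFlatLib.tmMap (F.map (S₀.map g₀)) (KFlatLib.tmMap (F.map (S₀.map g)) w) = 0 := by
    rw [KFlatLib.tmMap_toTm, KFlatLib.tmMap_toTm, ← hcomp, ← hcomp, ← KFlatLib.toTm_quotPow _ hl₀, ← hres, h0,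
      Abelian.Ext.zero_hom, map_zero]
  have hw : KFlatLib.tmMap (F.map (S₀.map g)) w = 0 := by
    refine (KFlatLib.isDual_shift_module hf hω hn J hJ N (i : ℤ)).1 (LinearMap.ext fun ψ => ?_)
    rw [map_zero, LinearMap.zero_apply]
    let c : (ω⟦-(i : ℤ)⟧)⟦(i : ℤ)⟧ ≅ ω := (shiftFunctorCompIsoId (Dual.D R) (-(i : ℤ)) (i : ℤ) (by omega)).app ω
    obtain ⟨φ, hφ⟩ := F.map_surjective (ψ ≫ c.inv)
    have hψ : ψ = F.map φ ≫ c.hom := by rw [hφ, Category.assoc, c.inv_hom_id, Category.comp_id]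
    obtain ⟨χ, hχ⟩ := h φ
    have e : F.map (S₀.map g) ≫ ψ = F.map (S₀.map g) ≫ F.map (S₀.map g₀) ≫ F.map χ ≫ c.hom := by
      rw [hψ, ← Functor.map_comp_assoc, hχ, Functor.map_comp, Functor.map_comp, Functor.map_comp]
      simp only [Category.assoc]
      rfl
    rw [KFlatLib.dualPairing_natural, e, ← KFlatLib.dualPairing_natural J (F.map (S₀.map g)) w,
      ← KFlatLib.dualPairing_natural J (F.map (S₀.map g₀)), hw0, map_zero, LinearMap.zero_apply]
  rw [KFlatLib.tmMap_toTm, ← hcomp, ← map_zero (KFlatLib.toTm ((Dual.inD R N)⟦(i : ℤ)⟧) n)] at hw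
  obtain ⟨l, h1, h2, he⟩ := (KFlatLib.toTm_eq_iff _ _ _).1 hw
  rw [comp_zero] at he
  refine (LC.toH_eq_zero_iff (maximalIdeal R) i _).2 ⟨l, h1, ?_⟩
  refine Abelian.Ext.homEquiv.injective ?_
  show (LC.res (maximalIdeal R) h1 i N _).hom = (0 : Abelian.Ext _ N i).hom
  rw [hres, Abelian.Ext.zero_hom]
  exact he

end Pairing

section AtPrime

variable {A : Type u} [CommRing A] (S : Submonoid A)

theorem hom_ext_mk {X : Type u} [AddCommGroup X] [Module A X] {Y : Type u} [AddCommGroup Y]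
    [Module (Localization S) Y] {u v : LocalizedModule S X →ₗ[Localization S] Y}
    (h : ∀ x : X, u (LocalizedModule.mk x 1) = v (LocalizedModule.mk x 1)) : u = v :=
  LinearMap.ext fun z => by
    induction z using LocalizedModule.induction_on with
    | h x t =>
      rw [show LocalizedModule.mk x t = (Localization.mk 1 t : Localization S) • LocalizedModule.mk x (1 : S) by
        rw [LocalizedModule.mk_smul_mk, one_smul, mul_one], map_smul, map_smul, h]

variable [IsNoetherianRing A] (J : CochainComplex (ModuleCat.{u} A) ℤ)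

theorem exists_lift_cocycle (X : Type u) [AddCommGroup X] [Module A X] [Module.Finite A X] (q : ℤ)
    (u : LocalizedModule S X →ₗ[Localization S] LocalizedModule S (J.X q))
    (hu : (u : LocalizedModule S X →ₗ[Localization S] (locCx S J).X q) ∈ Z (LocalizedModule S X) (locCx S J) q) :
    ∃ f ∈ Z X J q, ∃ s ∈ S, LocalizedModule.map S f = algebraMap A (Localization S) s • u := by
  haveI : Module.FinitePresentation A X := Module.finitePresentation_of_finite A X
  let u' : LocalizedModule S X →ₗ[Localization S] LocalizedModule S (J.X q) := u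
  obtain ⟨f, s, hs⟩ := Module.FinitePresentation.exists_lift_of_isLocalizedModule S (LocalizedModule.mkLinearMap S (J.X q))
    ((u'.restrictScalars A) ∘ₗ LocalizedModule.mkLinearMap S X)
  have hd : (LocalizedModule.mkLinearMap S (J.X (q + 1))) ∘ₗ ((J.d q (q + 1)).hom ∘ₗ f) =
      (LocalizedModule.mkLinearMap S (J.X (q + 1))) ∘ₗ 0 := by
    rw [LinearMap.comp_zero]
    refine LinearMap.ext fun x => ?_
    show LocalizedModule.mk ((J.d q (q + 1)).hom (f x)) 1 = 0
    rw [← PointT.lF_map_mk S (J.d q (q + 1))]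
    have h1 : LocalizedModule.mk (f x) (1 : S) = (s : A) • u' (LocalizedModule.mk x 1) := LinearMap.congr_fun hs x
    rw [h1, ← algebraMap_smul (Localization S) (s : A), map_smul]
    exact (congrArg ((algebraMap A (Localization S) s) • ·) (LinearMap.congr_fun hu (LocalizedModule.mk x 1))).trans
      (smul_zero _)
  obtain ⟨t, ht⟩ := Module.Finite.exists_smul_of_comp_eq_of_isLocalizedModule S (LocalizedModule.mkLinearMap S (J.X (q + 1)))
    (g₁ := (J.d q (q + 1)).hom ∘ₗ f) (g₂ := 0) hd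
  refine ⟨(t : A) • f, ?_, (t : A) * s, mul_mem t.2 s.2, hom_ext_mk S fun x => ?_⟩
  · show (J.d q (q + 1)).hom ∘ₗ ((t : A) • f) = 0
    rw [LinearMap.comp_smul]
    refine Eq.trans ht ?_
    exact smul_zero (A := X →ₗ[A] J.X (q + 1)) t
  · rw [LocalizedModule.map_mk]
    show LocalizedModule.mk ((t : A) • f x) 1 = algebraMap A (Localization S) ((t : A) * s) • u' (LocalizedModule.mk x 1)
    rw [algebraMap_smul, ← LocalizedModule.smul'_mk, mul_smul]
    exact congrArg ((t : A) • ·) (LinearMap.congr_fun hs x)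

omit [IsNoetherianRing A] in
theorem map_mem_B {X : Type u} [AddCommGroup X] [Module A X] (q : ℤ) {f : X →ₗ[A] J.X q} {t : A} (ht : t ∈ S)
    (h : t • f ∈ B X J q) :
    (LocalizedModule.map S f : LocalizedModule S X →ₗ[Localization S] (locCx S J).X q) ∈
      B (LocalizedModule S X) (locCx S J) q := by
  obtain ⟨e, he⟩ := h
  refine ⟨(Localization.mk 1 ⟨t, ht⟩ : Localization S) • LocalizedModule.map S e, hom_ext_mk S fun x => ?_⟩
  show ((lF S).map (J.d (q - 1) q)).hom
      ((Localization.mk 1 ⟨t, ht⟩ : Localization S) • LocalizedModule.map S e (LocalizedModule.mk x 1)) =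
    LocalizedModule.map S f (LocalizedModule.mk x 1)
  rw [map_smul, LocalizedModule.map_mk, PointT.lF_map_mk, LocalizedModule.map_mk]
  have h1 : (J.d (q - 1) q).hom (e x) = t • f x := LinearMap.congr_fun he x
  rw [h1, LocalizedModule.mk_smul_mk, one_smul, mul_one]
  exact LocalizedModule.mk_cancel (s := ⟨t, ht⟩) (m := f x)

variable (p : PrimeSpectrum A) (hinj : ∀ j, Module.Injective A (J.X j)) (a : ℤ) [J.IsStrictlyGE a]
  {ω : Dual.D A} (e : DerivedCategory.Q.obj J ≅ ω) (hω : Dual.IsDualizing A ω) {n : PrimeSpectrum A → ℤ}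
  (hn : KFlatLib.IsExtDegree ω n) [J.IsKInjective]

include a hinj e hω hn in
theorem exists_normalized_locCx :
    Dual.IsDualizing (Rp p) ((DerivedCategory.Q.obj (locCx p.asIdeal.primeCompl J))⟦n p⟧) ∧
      Dual.IsNormalized (Rp p) ((DerivedCategory.Q.obj (locCx p.asIdeal.primeCompl J))⟦n p⟧) := by
  let R := Rp p
  let S := p.asIdeal.primeCompl
  haveI : IsNoetherianRing R := IsLocalization.isNoetherianRing S _ inferInstance
  haveI := isKInjective_locCx S J hinj a
  obtain ⟨n', hn', h1, h2⟩ := exists_normalized (isDualizing_locCx p J e hω)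
  suffices h : n' (closedPoint R) = n p by rw [← h]; exact ⟨h1, h2⟩
  by_contra hne
  set c := n' (closedPoint R)
  have hA : Subsingleton (LocalizedModule S (Dual.inD A (A ⧸ p.asIdeal) ⟶ ω⟦c⟧)) :=
    not_nontrivial_iff_subsingleton.1 fun h' => hne ((hn p c).1 h')
  let θ := (equivE (A ⧸ p.asIdeal) J c).trans
    (Linear.homCongr A (Iso.refl _) ((shiftFunctor (Dual.D A) c).mapIso e))
  have hR : Subsingleton (Dual.inD R (LocalizedModule S (A ⧸ p.asIdeal)) ⟶
      (DerivedCategory.Q.obj (locCx S J))⟦c⟧) := by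
    refine subsingleton_of_forall_eq 0 fun ψ => ?_
    obtain ⟨u, rfl⟩ := psiL_surjective (LocalizedModule S (A ⧸ p.asIdeal)) (locCx S J) c ψ
    obtain ⟨f, hf, s, hs, hsu⟩ := exists_lift_cocycle S J (A ⧸ p.asIdeal) c u.1 u.2
    obtain ⟨t, ht, h0⟩ := LocalizedModule.subsingleton_iff.1 hA (θ (Submodule.Quotient.mk ⟨f, hf⟩))
    have h3 : t • f ∈ B (A ⧸ p.asIdeal) J c := by
      have := θ.injective (((θ.map_smul t _).trans h0).trans (map_zero θ).symm)
      rw [← Submodule.Quotient.mk_smul, Submodule.Quotient.mk_eq_zero] at this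
      exact this
    have h4 := map_mem_B S J c ht h3
    rw [hsu] at h4
    refine (psiL_eq_zero_iff _ _ c u).2 ?_
    have hu : IsUnit (algebraMap A R s) := IsLocalization.map_units R (⟨s, hs⟩ : S)
    exact (Submodule.smul_mem_iff_of_isUnit _ hu).1 h4
  obtain ⟨ε⟩ : Nonempty (LocalizedModule S (A ⧸ p.asIdeal) ≃ₗ[R] (R ⧸ (closedPoint R).asIdeal)) :=
    ⟨(LocalizedModule.equivTensorProduct S _).trans
      ((Algebra.TensorProduct.quotIdealMapEquivTensorQuot R p.asIdeal).toLinearEquiv.symm.trans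
        (Submodule.quotEquivOfEq _ _ Localization.AtPrime.map_eq_maximalIdeal))⟩
  have hR' : Subsingleton (Dual.inD R (R ⧸ (closedPoint R).asIdeal) ⟶ (DerivedCategory.Q.obj (locCx S J))⟦c⟧) :=
    (((DerivedCategory.singleFunctor (ModuleCat.{u} R) 0).mapIso ε.toModuleIso).homFromEquiv).symm.subsingleton
  haveI := (hn' (closedPoint R) c).2 rfl
  exact not_subsingleton _ (LocalizedModule.subsingleton_iff.2 fun φ => ⟨1, one_mem _, hR'.elim _ _⟩ :
    Subsingleton (LocalizedModule (closedPoint R).asIdeal.primeCompl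
      (Dual.inD R (R ⧸ (closedPoint R).asIdeal) ⟶ (DerivedCategory.Q.obj (locCx S J))⟦c⟧)))

end AtPrime

end Groth.Agent.GrLib8.ProZ
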