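import Groth.Agent.GrLib8.HTLib
import Groth.Agent.GrLib8.ProZ.Main

/-!
# From pro-zero systems to formal limits
-/

set_option autoImplicit false
set_option linter.style.haveILetI false

universe u

open CategoryTheory Limits

namespace Groth.Agent.GrLib8.ProZ

variable {A : Type u} [CommRing A] {T : Set (PrimeSpectrum A)}

open HTLib (HTo tH rs)

/-- The induced map on cohomology with supports. -/
noncomputable abbrev hmap (T : Set (PrimeSpectrum A)) (i : ℕ) {M N : ModuleCat.{u} A} (g : M ⟶ N) :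
    HTo T i M →ₗ[A] HTo T i N :=
  ((localCohomology.ofDiagram.{u, u} (Dual2.idealsInDiagram T) i).map g).hom

theorem hmap_comp (i : ℕ) {M N P : ModuleCat.{u} A} (g : M ⟶ N) (h : N ⟶ P) (x : HTo T i M) :
    hmap T i (g ≫ h) x = hmap T i h (hmap T i g x) :=
  ConcreteCategory.congr_hom ((localCohomology.ofDiagram.{u, u} (Dual2.idealsInDiagram T) i).map_comp g h) x

theorem hmap_id_smul (i : ℕ) {M : ModuleCat.{u} A} (a : A) (x : HTo T i M) :
    hmap T i (a • 𝟙 M) x = a • x := by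
  obtain ⟨K, y, rfl⟩ := HTLib.exists_tH i x
  refine (HTLib.tH_natural i (a • 𝟙 M) y).trans ?_
  rw [← map_smul, Abelian.Ext.mk₀_smul, Abelian.Ext.comp_smul, Abelian.Ext.comp_mk₀_id]

theorem exact₂ (i : ℕ) {S : ShortComplex (ModuleCat.{u} A)} (hS : S.ShortExact) (x : HTo T i S.X₂)
    (hx : hmap T i S.g x = 0) : ∃ w, hmap T i S.f w = x := by
  obtain ⟨K, y, rfl⟩ := HTLib.exists_tH i x
  rw [show hmap T i S.g (tH i S.X₂ K y) = _ from HTLib.tH_natural i S.g y, HTLib.tH_eq_zero_iff] at hx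
  obtain ⟨K', a, ha⟩ := hx
  rw [HTLib.rs_comp] at ha
  obtain ⟨v, hv⟩ := Abelian.Ext.covariant_sequence_exact₂ (HTLib.qO K') hS _ ha
  refine ⟨tH i S.X₁ K' v, ?_⟩
  rw [show hmap T i S.f (tH i S.X₁ K' v) = _ from HTLib.tH_natural i S.f v, hv, HTLib.tH_rs]

/-- A map of sequences that kills the cohomology of the left term one degree up lifts every class. -/
theorem lift_of_kills (i : ℕ) {S S' : ShortComplex (ModuleCat.{u} A)} (hS : S.ShortExact) (hS' : S'.ShortExact)
    (τ : S ⟶ S') (hτ : ∀ e, hmap T (i + 1) τ.τ₁ e = 0) (z : HTo T i S.X₃) :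
    ∃ w, hmap T i S'.g w = hmap T i τ.τ₃ z := by
  obtain ⟨K, y, rfl⟩ := HTLib.exists_tH i z
  have h1 := hτ (tH (i + 1) S.X₁ K (y.comp hS.extClass rfl))
  rw [show hmap T (i + 1) τ.τ₁ _ = _ from HTLib.tH_natural (i + 1) τ.τ₁ _, HTLib.tH_eq_zero_iff,
    Abelian.Ext.comp_assoc_of_third_deg_zero, ShortComplex.ShortExact.extClass_naturality hS hS' τ,
    ← Abelian.Ext.comp_assoc _ _ _ (add_zero i) (zero_add 1) (by omega)] at h1
  obtain ⟨K', a, ha⟩ := h1
  rw [HTLib.rs_comp] at ha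
  obtain ⟨v, hv⟩ := Abelian.Ext.covariant_sequence_exact₃ (HTLib.qO K') hS' _ rfl ha
  refine ⟨tH i S'.X₂ K' v, ?_⟩
  rw [show hmap T i S'.g (tH i S'.X₂ K' v) = _ from HTLib.tH_natural i S'.g v, hv, HTLib.tH_rs]
  exact (HTLib.tH_natural i τ.τ₃ y).symm

variable (I : Ideal A) (M : Type u) [AddCommGroup M] [Module A M]

/-- The inclusion of the filtration in the module. -/
noncomputable abbrev sysInc (k : ℕ) : sys I M k ⟶ ModuleCat.of A M := ModuleCat.ofHom (N I M k).subtype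

/-- The projection to the quotient. -/
noncomputable abbrev quo (k : ℕ) : ModuleCat.of A M ⟶ ModuleCat.of A (M ⧸ N I M k) := ModuleCat.ofHom (N I M k).mkQ

/-- The transition map of the quotients. -/
noncomputable abbrev quoMap (k m : ℕ) (h : m ≤ k) :
    ModuleCat.of A (M ⧸ N I M k) ⟶ ModuleCat.of A (M ⧸ N I M m) :=
  ModuleCat.ofHom (Submodule.mapQ _ _ LinearMap.id (N_le I h))

/-- The sequence at a level. -/
noncomputable abbrev qseq (k : ℕ) : ShortComplex (ModuleCat.{u} A) :=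
  ShortComplex.mk (sysInc I M k) (quo I M k)
    (ModuleCat.hom_ext (LinearMap.exact_subtype_mkQ (N I M k)).linearMap_comp_eq_zero)

theorem qseq_shortExact (k : ℕ) : (qseq I M k).ShortExact :=
  { exact := (ShortComplex.ShortExact.moduleCat_exact_iff_function_exact _).2 (LinearMap.exact_subtype_mkQ _)
    mono_f := (ModuleCat.mono_iff_injective _).2 Subtype.val_injective
    epi_g := (ModuleCat.epi_iff_surjective _).2 (Submodule.mkQ_surjective _) }

/-- The map of sequences between two levels. -/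
noncomputable def qseqMap (k m : ℕ) (h : m ≤ k) : qseq I M k ⟶ qseq I M m where
  τ₁ := sysMap I M k m h
  τ₂ := 𝟙 _
  τ₃ := quoMap I M k m h
  comm₁₂ := ModuleCat.hom_ext (LinearMap.ext fun _ => rfl)
  comm₂₃ := ModuleCat.hom_ext (LinearMap.ext fun _ => rfl)

variable {I M}

theorem hmap_quo_quoMap (i : ℕ) {k m : ℕ} (h : m ≤ k) (x : HTo T i (ModuleCat.of A M)) :
    hmap T i (quoMap I M k m h) (hmap T i (quo I M k) x) = hmap T i (quo I M m) x := by
  rw [← hmap_comp]
  rfl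

/-- A class dying in a deep quotient vanishes. -/
theorem eq_zero_of_hmap_quo {i K : ℕ} (hK : ∀ x, hmap T i (sysMap I M K 0 (Nat.zero_le K)) x = 0) {n : ℕ}
    (hn : K ≤ n) (x : HTo T i (ModuleCat.of A M)) (hx : hmap T i (quo I M n) x = 0) : x = 0 := by
  obtain ⟨w, rfl⟩ := exact₂ i (qseq_shortExact I M n) x hx
  show hmap T i (sysMap I M n K hn ≫ sysMap I M K 0 (Nat.zero_le K) ≫ sysInc I M 0) w = 0
  rw [hmap_comp, hmap_comp, hK, map_zero]

/-- A power of the ideal kills. -/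
theorem smul_eq_zero_of_kills {i K : ℕ} (hK : ∀ x, hmap T i (sysMap I M K 0 (Nat.zero_le K)) x = 0) {a : A}
    (ha : a ∈ I ^ K) (x : HTo T i (ModuleCat.of A M)) : a • x = 0 := by
  let f : ModuleCat.of A M ⟶ sys I M K := ModuleCat.ofHom
    ((LinearMap.lsmul A M a).codRestrict (N I M K) fun m => Submodule.smul_mem_smul ha Submodule.mem_top)
  have h : a • 𝟙 (ModuleCat.of A M) = f ≫ sysMap I M K 0 (Nat.zero_le K) ≫ sysInc I M 0 :=
    ModuleCat.hom_ext (LinearMap.ext fun _ => rfl)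
  rw [← hmap_id_smul i a x, h, hmap_comp, hmap_comp, hK, map_zero]

/-- The images of deep quotients are the images of the module. -/
theorem range_quoMap {i k n : ℕ} (h : n ≤ k) (hk : ∀ x, hmap T (i + 1) (sysMap I M k n h) x = 0) {l : ℕ}
    (hl : k ≤ l) :
    Set.range (hmap T i (quoMap I M l n (h.trans hl))) = Set.range (hmap T i (quo I M n)) := by
  refine Set.Subset.antisymm ?_ ?_
  · rintro _ ⟨z, rfl⟩
    have e : quoMap I M l n (h.trans hl) = quoMap I M l k hl ≫ quoMap I M k n h :=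
      ModuleCat.hom_ext (Submodule.linearMap_qext _ (LinearMap.ext fun _ => rfl))
    rw [e, hmap_comp]
    exact lift_of_kills i (qseq_shortExact I M k) (qseq_shortExact I M n) (qseqMap I M k n h) hk _
  · rintro _ ⟨x, rfl⟩
    exact ⟨hmap T i (quo I M l) x, hmap_quo_quoMap i (h.trans hl) x⟩

theorem quoMap_comp {k l m : ℕ} (h₁ : m ≤ l) (h₂ : l ≤ k) :
    quoMap I M k m (h₁.trans h₂) = quoMap I M k l h₂ ≫ quoMap I M l m h₁ :=
  ModuleCat.hom_ext (Submodule.linearMap_qext _ (LinearMap.ext fun _ => rfl))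

theorem quoMap_self (k : ℕ) : quoMap I M k k le_rfl = 𝟙 _ :=
  ModuleCat.hom_ext (Submodule.linearMap_qext _ (LinearMap.ext fun _ => rfl))

theorem hmap_id (i : ℕ) {N : ModuleCat.{u} A} (x : HTo T i N) : hmap T i (𝟙 N) x = x :=
  ConcreteCategory.congr_hom ((localCohomology.ofDiagram.{u, u} (Dual2.idealsInDiagram T) i).map_id N) x

/-- The transition maps to the next lower level determine all transition maps. -/
theorem hmap_quoMap_compat (i : ℕ) (y : ∀ n : ℕ, HTo T i (ModuleCat.of A (M ⧸ N I M (n + 1))))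
    (hy : ∀ n, hmap T i (quoMap I M (n + 1 + 1) (n + 1) (Nat.le_succ _)) (y (n + 1)) = y n) (n : ℕ) :
    ∀ (l : ℕ) (h : n ≤ l), hmap T i (quoMap I M (l + 1) (n + 1) (Nat.succ_le_succ h)) (y l) = y n := by
  intro l h
  induction l, h using Nat.le_induction with
  | base => rw [quoMap_self, hmap_id]
  | succ l h ih =>
    rw [quoMap_comp (Nat.succ_le_succ h) (Nat.le_succ (l + 1)), hmap_comp, hy l, ih]

/-- Compatible families come from classes of the module. -/
theorem exists_of_compat {i K : ℕ} (hK : ∀ x, hmap T i (sysMap I M K 0 (Nat.zero_le K)) x = 0)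
    (hs : ∀ m, ∃ (k : ℕ) (hk : m ≤ k), ∀ x, hmap T (i + 1) (sysMap I M k m hk) x = 0)
    (y : ∀ n : ℕ, HTo T i (ModuleCat.of A (M ⧸ N I M (n + 1))))
    (hy : ∀ n, hmap T i (quoMap I M (n + 1 + 1) (n + 1) (Nat.le_succ _)) (y (n + 1)) = y n) :
    ∃ x, ∀ n, hmap T i (quo I M (n + 1)) x = y n := by
  have hlift : ∀ n : ℕ, ∃ x, hmap T i (quo I M (n + 1)) x = y n := by
    intro n
    obtain ⟨k, hk, h⟩ := hs (n + 1)
    have hmem : y n ∈ Set.range (hmap T i (quoMap I M (k + 1) (n + 1) (hk.trans (Nat.le_succ k)))) :=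
      ⟨y k, hmap_quoMap_compat i y hy n k (by omega)⟩
    rw [range_quoMap hk h (Nat.le_succ k)] at hmem
    exact hmem
  obtain ⟨x, hx⟩ := hlift K
  refine ⟨x, fun n => ?_⟩
  rcases le_total n K with hn | hn
  · rw [← hmap_quoMap_compat i y hy n K hn, ← hx, hmap_quo_quoMap]
  · obtain ⟨x', hx'⟩ := hlift n
    have h0 : hmap T i (quo I M (K + 1)) (x - x') = 0 := by
      rw [map_sub, hx, ← hmap_quo_quoMap i (Nat.succ_le_succ hn) x', hx', hmap_quoMap_compat i y hy K n hn,
        sub_self]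
    rw [sub_eq_zero.1 (eq_zero_of_hmap_quo hK (Nat.le_succ K) _ h0)]
    exact hx'

end Groth.Agent.GrLib8.ProZ
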