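import Groth.Agent.GrLib8.ProZ.Isolated
import Groth.Agent.GrLib8.Bootstrap.Rows
import Groth.Agent.LC.HlvtMain
import Groth.Agent.FormCat.Descent

/-!
# Top local cohomology of a prime quotient under the depth condition on the completion
-/

set_option autoImplicit false
set_option linter.style.haveILetI false

universe u

open IsLocalRing CategoryTheory
open scoped TensorProduct

namespace Groth.Agent.GrLib8.ProZ

variable (R : Type u) [CommRing R] [IsLocalRing R] [IsNoetherianRing R] (J : Ideal R)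
  (M : Type u) [AddCommGroup M] [Module R M] [Module.Finite R M]

theorem subsingleton_H_top (hJ : J ≤ maximalIdeal R) (s : ℕ)
    (h6 : ∀ P' : PrimeSpectrum (AdicCompletion J R), ¬ J.map (algebraMap R (AdicCompletion J R)) ≤ P'.asIdeal →
      (∀ Q : PrimeSpectrum (AdicCompletion J R), P' ≤ Q → J.map (algebraMap R (AdicCompletion J R)) ≤ Q.asIdeal →
        Q.asIdeal.IsMaximal) →
      (s : ℕ∞) < LocCoh.depth (Localization.AtPrime P'.asIdeal) (LocalizedModule P'.asIdeal.primeCompl (AdicCompletion J M)))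
    (P : Ideal R) [P.IsPrime] (hne : ¬ J ≤ P)
    (hdep : LocCoh.depth (Localization.AtPrime P) (LocalizedModule P.primeCompl M) ≤ (s : ℕ∞))
    (δ : ℕ) (hδ : ringKrullDim (R ⧸ P) = δ) :
    Subsingleton ((localCohomology J δ).obj (ModuleCat.of R (R ⧸ P))) := by
  classical
  have fg : J.FG := IsNoetherian.noetherian _
  let A' := AdicCompletion J R
  let C := EGA4.Cpl R
  haveI := FormalFib6.isNoetherianRing_adicCompletion R J
  haveI : Module.Flat R A' := Bootstrap.flat_completion R J
  haveI := FlatLoc6.isLocalRing_cpl R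
  haveI := FlatLoc6.isNoetherianRing_cpl R
  haveI := FlatLoc6.faithfullyFlat_cpl R
  haveI hcC : IsAdicComplete (maximalIdeal C) C := FormCat.isAdicComplete_cpl R
  obtain ⟨_, _, _⟩ := Bootstrap.exists_toCpl R J hJ
  haveI : IsLocalRing A' := by
    haveI : Nontrivial A' := (algebraMap A' C).domain_nontrivial
    refine IsLocalRing.of_nonunits_add fun a b ha hb hab => ?_
    have key : ∀ x : A', ¬ IsUnit x → ¬ IsUnit (algebraMap A' C x) := fun x hx hu => hx (by
      rw [← Ideal.span_singleton_eq_top, ← Ideal.comap_map_eq_self_of_faithfullyFlat (A := A') (B := C) (Ideal.span {x}),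
        Ideal.map_span, Set.image_singleton, Ideal.span_singleton_eq_top.2 hu, Ideal.comap_top])
    exact (mem_nonunits_iff.1 (add_mem (s := maximalIdeal C) (key a ha) (key b hb)))
      (by rw [← map_add]; exact hab.map (algebraMap A' C))
  have hmA : (maximalIdeal R).map (algebraMap R A') = maximalIdeal A' :=
    IsLocalRing.eq_maximalIdeal (AdicCompletion.isMaximal_map_of_le J _ hJ fg)
  have hmC : (maximalIdeal A').map (algebraMap A' C) = maximalIdeal C := by
    rw [← hmA, Ideal.map_map, ← IsScalarTower.algebraMap_eq, AdicCompletion.maximalIdeal_eq_map]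
  let J' := J.map (algebraMap R A')
  haveI : IsAdicComplete J' A' := AdicCompletion.isAdicComplete_self J fg
  have hJ' : J' ≤ maximalIdeal A' := hmA ▸ Ideal.map_mono hJ
  have hd : ∀ (y : C) (n : ℕ), ∃ a : A', y - algebraMap A' C a ∈ (maximalIdeal A' ^ n).map (algebraMap A' C) := by
    intro y n
    obtain ⟨a, ha⟩ := Submodule.mkQ_surjective _ (AdicCompletion.eval (maximalIdeal R) R n y)
    refine ⟨algebraMap R A' a, ?_⟩
    rw [← IsScalarTower.algebraMap_apply R A' C, ← hmA, ← Ideal.map_pow, Ideal.map_map, ← IsScalarTower.algebraMap_eq,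
      ← LocalCrit.smul_top_eq_map, AdicCompletion.pow_smul_top_eq_ker_eval (IsNoetherian.noetherian _),
      LinearMap.mem_ker, map_sub, ← ha, sub_eq_zero]
    exact (AdicCompletion.eval_of _ _ n a).symm
  haveI : IsLocalRing (R ⧸ P) := .of_surjective' (Ideal.Quotient.mk P) Ideal.Quotient.mk_surjective
  have hdC : ringKrullDim (C ⧸ P.map (algebraMap R C)) = δ := (FormCat.ringKrullDim_cpl_quotient R P).trans hδ
  suffices h : Subsingleton ((localCohomology (J.map (algebraMap R C)) δ).obj
      (ModuleCat.of C (C ⧸ P.map (algebraMap R C)))) by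
    obtain ⟨e⟩ := LC.exists_baseChange (R' := C) J δ (R ⧸ P)
    have h1 := LC.subsingleton_H_of_equiv (J.map (algebraMap R C))
      (Algebra.TensorProduct.quotIdealMapEquivTensorQuot C P).toLinearEquiv δ h
    exact (Module.FaithfullyFlat.subsingleton_tensorProduct_iff_right R C).1 (e.toEquiv.subsingleton)
  refine LC.subsingleton_H_of_filtration _ δ _ fun q hq => ?_
  have hqP : P.map (algebraMap R C) ≤ q.asIdeal := by
    rw [Module.support_eq_zeroLocus, Ideal.annihilator_quotient] at hq
    exact hq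
  have hle : (Order.coheight q : WithBot ℕ∞) ≤ ((δ : ℕ∞) : WithBot ℕ∞) := by
    refine (LC.coheight_le_supportDim hq).trans (le_of_eq ?_)
    rw [Module.supportDim_quotient_eq_ringKrullDim, hdC]
    rfl
  rcases lt_or_eq_of_le (WithBot.coe_le_coe.1 hle) with hlt | heq
  · exact LC.subsingleton_H_quot_prime _ q δ hlt
  have hqmin : q.asIdeal ∈ (P.map (algebraMap R C)).minimalPrimes := by
    refine ⟨⟨q.2, hqP⟩, fun Q hQ hQq => ?_⟩
    by_contra hne'
    have hlt : (⟨Q, hQ.1⟩ : PrimeSpectrum C) < q := lt_of_le_not_ge hQq hne'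
    have h1 := LC.coheight_add_one_le hlt
    have hQs : (⟨Q, hQ.1⟩ : PrimeSpectrum C) ∈ Module.support C (C ⧸ P.map (algebraMap R C)) := by
      rw [Module.support_eq_zeroLocus, Ideal.annihilator_quotient]
      exact hQ.2
    have h2 := (LC.coheight_le_supportDim hQs)
    rw [Module.supportDim_quotient_eq_ringKrullDim, hdC, heq] at *
    have h3 : ((δ : ℕ∞) + 1 : ℕ∞) ≤ (δ : ℕ∞) := h1.trans (WithBot.coe_le_coe.1 h2)
    exact absurd h3 (by exact_mod_cast Nat.not_succ_le_self δ)
  let S := C ⧸ q.asIdeal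
  haveI : Nontrivial S := Ideal.Quotient.nontrivial_iff.2 q.isPrime.ne_top
  haveI : IsLocalRing S := .of_surjective' _ Ideal.Quotient.mk_surjective
  haveI hcS : IsAdicComplete (maximalIdeal S) S := by
    have h1 : IsAdicComplete (maximalIdeal C) S := Adic7.isAdicComplete_of_finite _ _
    rw [← map_maximalIdeal_of_surjective (algebraMap C S) Ideal.Quotient.mk_surjective]
    exact (IsAdicComplete.map_algebraMap_iff (S := S) (maximalIdeal C) S).mpr h1
  have hqd : ringKrullDim S = δ := by
    rw [← LC.coheight_eq_ringKrullDim_quotient, heq]; rfl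
  obtain ⟨φ, -⟩ := LC.exists_indep (R := C) (R' := S) (J.map (algebraMap R C)) δ S
  suffices h : 1 ≤ ringKrullDim (S ⧸ (J.map (algebraMap R C)).map (algebraMap C S)) by
    haveI := LC.subsingleton_H_complete_domain hqd _ h
    exact φ.symm.toEquiv.subsingleton
  by_contra hdim
  -- then the branch meets the closed set only in the closed point
  let K := q.asIdeal ⊔ J.map (algebraMap R C)
  have hK0 : ∀ Q : Ideal C, Q.IsPrime → K ≤ Q → Q = maximalIdeal C := by
    intro Q hQ hKQ
    by_contra hQm
    apply hdim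
    refine le_of_le_of_eq ?_ (ringKrullDim_eq_of_ringEquiv
      (DoubleQuot.quotQuotEquivQuotSup q.asIdeal (J.map (algebraMap R C)))).symm
    rw [ringKrullDim_quotient]
    let a : PrimeSpectrum.zeroLocus (R := C) (K : Set C) := ⟨⟨Q, hQ⟩, hKQ⟩
    let b : PrimeSpectrum.zeroLocus (R := C) (K : Set C) :=
      ⟨IsLocalRing.closedPoint C, show (K : Ideal C) ≤ maximalIdeal C from hKQ.trans (le_maximalIdeal hQ.ne_top)⟩
    have hab : a < b := lt_of_le_not_ge (show Q ≤ maximalIdeal C from le_maximalIdeal hQ.ne_top)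
      fun hba => hQm (le_antisymm (le_maximalIdeal hQ.ne_top) hba)
    exact Order.LTSeries.length_le_krullDim ((RelSeries.singleton _ a).snoc b hab)
  have hN : ∃ N : ℕ, maximalIdeal C ^ N ≤ q.asIdeal ⊔ J'.map (algebraMap A' C) := by
    rw [Ideal.map_map, ← IsScalarTower.algebraMap_eq]
    refine Ideal.exists_pow_le_of_le_radical_of_fg ?_ (IsNoetherian.noetherian _)
    rw [Ideal.radical_eq_sInf]
    exact le_sInf fun Q hQ => (hK0 Q hQ.2 hQ.1).ge
  let P' : Ideal A' := q.asIdeal.comap (algebraMap A' C)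
  have hqc : q.asIdeal.comap (algebraMap R C) = P := FormCat.under_eq_of_mem_minimalPrimes P hqmin
  have hP'c : P'.comap (algebraMap R A') = P := by
    rw [Ideal.comap_comap, ← IsScalarTower.algebraMap_eq, hqc]
  have hqP' : q.asIdeal ∈ (P'.map (algebraMap A' C)).minimalPrimes := by
    refine ⟨⟨q.2, Ideal.map_comap_le⟩, fun Q hQ hQq => hqmin.2 ⟨hQ.1, le_trans ?_ hQ.2⟩ hQq⟩
    rw [← hP'c, IsScalarTower.algebraMap_eq R A' C, ← Ideal.map_map]
    exact Ideal.map_mono Ideal.map_comap_le
  have hJP' : ¬ J' ≤ P' := fun hle => hne (by rw [← hP'c]; exact Ideal.map_le_iff_le_comap.1 hle)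
  have h := h6 ⟨P', inferInstance⟩ hJP' fun Q hPQ hJQ => by
    rw [eq_maximalIdeal_of_isolated J' hJ' hmC hd P' q.asIdeal hqP' hN Q.asIdeal (sup_le hPQ hJQ)]
    exact maximalIdeal.isMaximal A'
  rw [Bootstrap.depth_completion] at h
  have hfib : FlatLoc6.fibDepth R P' A' = 0 := by
    have hsupp : (⟨P', inferInstance⟩ : PrimeSpectrum A') ∈ Module.support A' A' := by
      rw [Module.mem_support_iff]
      exact (LC.selfLoc P'.primeCompl).toEquiv.nontrivial
    refine (FlatLoc6.fib_zero_of_minimal A' P' hsupp fun Q _ hQ hc => ?_).2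
    haveI : q.asIdeal.LiesOver P' := ⟨rfl⟩
    obtain ⟨Qt, hQtq, hQtp, hQtc⟩ := Ideal.exists_ideal_le_liesOver_of_le (p := Q.asIdeal) (q := P') q.asIdeal hQ
    have hQtP : P.map (algebraMap R C) ≤ Qt := by
      rw [IsScalarTower.algebraMap_eq R A' C, ← Ideal.map_map]
      refine Ideal.map_le_iff_le_comap.2 ((Ideal.map_le_iff_le_comap.2 ?_).trans hQtc.over.le)
      exact hP'c ▸ hc
    haveI := hQtp
    exact le_antisymm hQ (le_trans (Ideal.comap_mono (hqmin.2 ⟨hQtp, hQtP⟩ hQtq)) hQtc.over.ge)
  rw [hfib, add_zero] at h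
  have key : ∀ (x : Ideal R) [x.IsPrime], x = P →
      LocCoh.depth (Localization.AtPrime x) (LocalizedModule x.primeCompl M) =
        LocCoh.depth (Localization.AtPrime P) (LocalizedModule P.primeCompl M) := by
    intro x _ hx
    subst hx
    rfl
  rw [key _ hP'c] at h
  exact absurd (h.trans_le hdep) (lt_irrefl _)

end Groth.Agent.GrLib8.ProZ
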